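import Cfsg.Agent.Lib.A12S.K2c
import Cfsg.Agent.S2086
import Cfsg.Agent.S2089
import Cfsg.Agent.S2090

/-!
# S3101 (K2): from `L / ⟨α⟩ ≅ L₄(q), U₄(q)` to the package `Pk`.

Model free; the work is in `K2a`, `Ext`, `K2b`, `K2c`.  `α = al 6` is central in `Y`; `E⁺ = ⟨al i * al k (i, k < 6)⟩ ≅ 2⁵ ≤ L` (contains `α`, the
product of all six `al i`, by `hp`; `hi` says that the `al i` only satisfy the relation `hp`).
1. `L/⟨α⟩ ≅ PΩ₆^ε(q)` (S0302, S0303), `|L/⟨α⟩|₂ = 2⁷` gives `q ≡ ±3 (8)`.  `L` is a perfect double cover; the 2-part of the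
   multiplier is cyclic (S2086, S2089, S2090), so the perfect double cover is unique (derived group of the fibre
   product of two of them has cyclic centre).  If `-1 ∉ Ω₆^ε(q)` (`L₄`, `q ≡ 3`; `U₄`, `q ≡ 5 (8)`) it is `SL₄(q)`, `SU₄(q)` of
   2-rank 3 (central involution `-1`, commuting diagonalizable involutions of det 1), against `E⁺`.  Otherwise
   `ψ : Ω(V₆) ≃ L`, `V₆ = (F⁶, Σ xᵢ²)` (type `+` iff `q ≡ 1 (4)`; `Orth.Class`), `ψ(-1) = α`.
2. `Aut L` is induced by `ΓO(V₆)` (`Orth.AutStd`/`AutPOmega`, `Gam`; automorphisms of the perfect group `L` trivial on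
   `L/Z` are trivial).  Weight spaces of `ψ⁻¹ E⁺` on `V₆`: characters with `α ↦ -1` are odd subsets of `{0..5}` modulo
   complement (6 of size 1, 10 of size 3), permuted by `perm` (`A₆`); `6 d₁ + 10 d₃ = 6`.  So there is an orthogonal frame
   `vᵢ` with `ψ(r_{vᵢ} r_{vₖ}) = al i * al k`; `Q vᵢ Q vₖ` is a square (spinor norm); a similarity makes it the standard frame.
3. `al 0` acts as `g ∈ ΓO₆` centralizing `E⁺` projectively, linear as `|Aut F|` is odd, so as a diagonal sign matrix of odd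
   weight (else `al 0 · e ∈ C(L) = ⟨α⟩`); invariance under the `A₅` on `{1..5}` gives weight set `{0}`.
   `CM F = Ω(V₆) ⋊ ⟨ao 0⟩`; `φ (y · (ao 0)^k) = ψ y · (al 0)^k`.
4. `act`: `Γ₁ = Z·Ω₆·⟨field automorphisms⟩ ⊴ ΓO₆` with 2-group quotient; the induced map `Y → ΓO₆/Γ₁` kills `L` and
   `|Y : L| = 2·odd`, so its image is generated by `al 0`.  Hence `x' = φ(m)⁻¹ x` acts on `L` as a field automorphism `σ` of odd order
   `k`; `x' (al 0) x'⁻¹ ∈ al 0 ⟨α⟩` and `x'^k ∈ ⟨α⟩` force `x'` to centralize `al 0`.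
-/

set_option autoImplicit false

namespace Cfsg.Lib.A12S

open Equiv Subgroup Cfsg.Lib.Orth Cfsg.Lib.Orth.Mono7

namespace K2

open Module

theorem cyc_ha (n : ℕ) (x : Multiplicative (ZMod n)) : ∃ y, x = y * y ∨ x = Multiplicative.ofAdd 1 * (y * y) := by
  obtain ⟨k, hk⟩ := ZMod.intCast_surjective x.toAdd
  obtain ⟨j, rfl | rfl⟩ := Int.even_or_odd' k <;> refine ⟨.ofAdd j, ?_⟩
  · exact .inl (Multiplicative.toAdd.injective (by rw [← hk]; simp [two_mul]))
  · exact .inr (Multiplicative.toAdd.injective (by rw [← hk]; simp [two_mul, add_comm]))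

theorem dvd_aux {q k a : ℕ} (hq : q % 8 = 1 ∨ q % 8 = 7) (ha : 8 ∣ a) (hk : Odd k)
    (h : 256 * k * 4 = 2 * q ^ 6 * a * ∏ i ∈ Finset.range 2, (q ^ (2 * (i + 1)) - 1)) : False := by
  obtain ⟨s, hs⟩ : ∃ s, q ^ 2 = 16 * s + 1 := by
    obtain ⟨t, rfl | rfl⟩ : ∃ t, q = 8 * t + 1 ∨ q = 8 * t + 7 := ⟨q / 8, by omega⟩
    exacts [⟨4 * t ^ 2 + t, by ring⟩, ⟨4 * t ^ 2 + 7 * t + 3, by ring⟩]
  obtain ⟨b, rfl⟩ := ha
  obtain ⟨j, rfl⟩ := hk
  rw [Finset.prod_range_succ, Finset.prod_range_one, show q ^ (2 * (1 + 1)) - 1 = 32 * (8 * s ^ 2 + s) from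
    Nat.sub_eq_of_eq_add (by rw [pow_mul, hs]; ring), show q ^ (2 * (0 + 1)) - 1 = 16 * s from Nat.sub_eq_of_eq_add hs,
    show 2 * q ^ 6 * (8 * b) * (16 * s * (32 * (8 * s ^ 2 + s))) = 8192 * (q ^ 6 * b * s * (8 * s ^ 2 + s)) by ring] at h
  omega

theorem odd_aut {F : Type*} [Field F] [Fintype F] (hq : Fintype.card F % 8 = 3 ∨ Fintype.card F % 8 = 5) :
    Odd (Nat.card (F ≃+* F)) := by
  obtain ⟨p, _, f, hp, hF⟩ := FiniteField.card' F
  have := Fact.mk hp
  rw [Linear.card_ringAut hF, ← Nat.not_even_iff_odd]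
  rintro ⟨j, e⟩
  rw [hF, e, pow_add, Nat.mul_mod] at hq
  generalize h : p ^ j % 8 = r at hq
  have : r < 8 := h ▸ Nat.mod_lt _ (by decide)
  interval_cases r <;> simp at hq

theorem two_ne {F : Type*} [Field F] [Fintype F] (h : Odd (Fintype.card F)) : (2 : F) ≠ 0 := fun e => by
  have := FiniteField.even_card_iff_char_two.1 (ringChar.eq_iff.2 ((CharP.charP_iff_prime_eq_zero (p := 2) Nat.prime_two).2 e))
  exact absurd (Nat.odd_iff.1 h) (by omega)

theorem Hy.fin {Y : Type*} [Group Y] [Finite Y] {L : Subgroup Y} [L.Normal] {a : Fin 6 → Y} {z : Y} (H : Hy L a z) (hz : z ≠ 1)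
    {F V : Type*} [Field F] [Finite F] [AddCommGroup V] [Module F V] [FiniteDimensional F V] {Q : QuadraticForm F V} (hQ : ND Q)
    (h2 : (2 : F) ≠ 0) (h6 : finrank F V = 6) {G A : Type*} [Group G] [CommGroup A] (hA : HasSchurMultiplier G A) (b : A)
    (hb : ∀ x, ∃ y, x = y * y ∨ x = b * (y * y)) (e : PCom (O Q) ≃* G) (f : L →* G) (sf : Function.Surjective f)
    (kf : ∀ l, f l = 1 ↔ (l : Y) = 1 ∨ (l : Y) = z) : O.neg Q ∈ commutator (O Q) ∧ Nat.card L * 4 = Nat.card (O Q) ∧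
      ∃ θ' : L ≃* commutator (O (QI F 6)), ∀ i k, (θ' (H.p i k)).1 = SI F 6 (ms i * ms k) := by
  have hE := not_exc_of_two_ne_zero (Q := Q) h2
  have : Finite (O Q) := .of_injective _ (Gam.ofO_injective (Q := Q))
  have : Nontrivial V := Module.nontrivial_of_finrank_pos (R := F) (by omega)
  let g := e.toMonoidHom.comp (QuotientGroup.mk' (center (commutator (O Q))))
  have sg : Function.Surjective g := e.surjective.comp (QuotientGroup.mk'_surjective _)
  have kg : ∀ o, g o = 1 ↔ o ∈ center _ := fun o => e.map_eq_one_iff.trans (QuotientGroup.eq_one_iff _)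
  obtain ⟨θ, sj, h⟩ : ∃ θ : L →* commutator (O Q), Function.Surjective θ ∧ ∀ l, g (θ l) = f l := by
    by_cases n : O.neg Q ∈ commutator (O Q)
    · obtain ⟨θ, h⟩ := dbl hA b hb f g sf sg H.perf (commutator_omega_eq_top hQ (by omega)) (z := ⟨z, H.z_mem⟩) (w := ⟨_, n⟩)
        (fun e => hz (congrArg Subtype.val e)) (fun e => neg_ne_one h2 (congrArg Subtype.val e))
        (fun l => (kf l).trans (or_congr (Subtype.ext_iff (a1 := l) (a2 := 1)) (Subtype.ext_iff (a1 := l) (a2 := ⟨z, H.z_mem⟩))).symm) fun o =>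
          ((kg o).trans (mem_center_commutator_iff hQ hE (by omega))).trans
            (or_congr (Subtype.ext_iff (a1 := o) (a2 := 1)) (Subtype.ext_iff (a1 := o) (a2 := ⟨_, n⟩))).symm
      exact ⟨θ.toMonoidHom, θ.surjective, h⟩
    · let i := MulEquiv.ofBijective g ⟨(injective_iff_map_eq_one _).2 fun o ho => Subtype.ext
        (((mem_center_commutator_iff hQ hE (by omega)).1 ((kg o).1 ho)).resolve_right fun e => n (e ▸ o.2)), sg⟩
      exact ⟨i.symm.toMonoidHom.comp f, i.symm.surjective.comp sf, fun l => i.apply_symm_apply _⟩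
  obtain ⟨n, ij, r⟩ := H.frame hQ h2 h6 θ sj fun l => by rw [← kg, h, kf]
  exact ⟨n, by rw [Nat.card_congr (Equiv.ofBijective θ ⟨ij, sj⟩), ← index_commutator_of_odd hQ h2 (by omega), card_mul_index], r⟩

end K2

open K2 in
theorem pk_of_L {Y : Type*} [Group Y] [Finite Y] (al : Fin 7 → Y) (L : Subgroup Y) [L.Normal]
    (h2 : ∀ i, al i * al i = 1) (hc : ∀ i k, al i * al k = al k * al i)
    (hp : al 0 * al 1 * al 2 * al 3 * al 4 * al 5 = al 6)
    (hi : ∀ s : Finset (Fin 6), (List.ofFn fun i : Fin 6 => if i ∈ s then al i.castSucc else 1).prod = 1 → s = ∅)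
    (hz : ∀ y, y * al 6 = al 6 * y)
    (hL : ∀ i k : Fin 6, al i.castSucc * al k.castSucc ∈ L) (h0 : al 0 ∉ L)
    (perf : commutator L = ⊤) (cen : ∀ y, (∀ l ∈ L, y * l = l * y) → y = 1 ∨ y = al 6)
    (idx : ∃ k, Odd k ∧ L.index = 2 * k) (syl : ∃ k, Odd k ∧ Nat.card L = 256 * k)
    (perm : ∀ π : Perm (Fin 7), Perm.sign π = 1 → π 6 = 6 → ∃ n : Y, ∀ i, n * al i * n⁻¹ = al (π i))
    (quo : (∃ (K : Type) (_ : Field K) (_ : Fintype K) (f : L →* Matrix.ProjectiveSpecialLinearGroup (Fin 4) K),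
        Odd (Fintype.card K) ∧ Function.Surjective f ∧ ∀ l, f l = 1 ↔ (l : Y) = 1 ∨ (l : Y) = al 6) ∨
      ∃ (K : Type) (_ : Field K) (_ : Fintype K) (r : ℕ) (f : L →* Cfsg.PSU 4 K r), Fintype.card K = r ^ 2 ∧ Odd r ∧
        Function.Surjective f ∧ ∀ l, f l = 1 ↔ (l : Y) = 1 ∨ (l : Y) = al 6) :
    ∃ (F : Type) (_ : Field F) (_ : Fintype F), (Fintype.card F % 8 = 3 ∨ Fintype.card F % 8 = 5) ∧
      ∃ φ : CM F →* Y, Pk φ al := by
  have z1 : al 6 ≠ 1 := fun e => absurd (hi Finset.univ (by simpa [List.ofFn_succ, ← mul_assoc] using hp.trans e)) (by decide)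
  have H : Hy L (fun i => al i.castSucc) (al 6) :=
    { h2 := fun i => h2 _
      hc := fun i k => hc _ _
      hp := by rw [← mul_assoc, ← mul_assoc]; exact hp
      n1 := fun e => absurd (hi {0, 1} (by simpa [List.ofFn_succ] using e)) (by decide)
      nz := fun e => absurd (hi {2, 3, 4, 5} (by
        have := hp.trans e.symm
        simp only [mul_assoc] at this
        simpa [List.ofFn_succ] using this)) (by decide)
      hz := hz, hL := hL, h0 := h0, perf := perf, cen := cen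
      perm := fun π hπ => (perm (π.viaFintypeEmbedding Fin.castSuccEmb) (by simpa using hπ)
        (Perm.viaFintypeEmbedding_apply_notMem_range _ _ (by decide))).imp fun n h i =>
          (h _).trans (congrArg al (Perm.viaFintypeEmbedding_apply_image π Fin.castSuccEmb i)) }
  obtain ⟨k, hk, idx⟩ := idx
  obtain ⟨k', hk', syl⟩ := syl
  suffices ∃ (F : Type) (_ : Field F) (_ : Fintype F), (Fintype.card F % 8 = 3 ∨ Fintype.card F % 8 = 5) ∧
      ∃ θ' : L ≃* commutator (O (QI F 6)), ∀ i k, (θ' (H.p i k)).1 = SI F 6 (ms i * ms k) by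
    obtain ⟨F, _, _, hq, θ, hθ⟩ := this
    exact ⟨F, _, _, hq, H.pk (two_ne (Nat.odd_iff.2 (by omega))) θ hθ (by rw [FiniteField.isSquare_two_iff]; omega) (odd_aut hq) hk idx
      al rfl fun _ => rfl⟩
  obtain ⟨K, _, _, f, o, sf, kf⟩ | ⟨K, _, _, r, f, hK, o, sf, kf⟩ := quo
  · obtain ⟨e⟩ := nonempty_pomega_six_plus (F := K)
    have o' := Nat.odd_iff.1 o
    obtain ⟨n, c, r⟩ := H.fin z1 (nd_qPlus 3) (two_ne o) (by simp) (Agent.S2086.result rfl 4 (by decide) (by simp) (by simp; omega)) _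
      (cyc_ha _) ((pomegaEquiv _).symm.trans e) f sf kf
    rw [neg_mem_plus_iff o, not_and, imp_iff_right (by decide)] at n
    rw [syl, card_O_qPlus, Nat.card_eq_fintype_card] at c
    refine ⟨K, _, _, by_contra fun h => dvd_aux (by omega) ?_ hk' c, r⟩
    obtain ⟨t, e⟩ : ∃ t, Fintype.card K = 8 * t + 1 := ⟨Fintype.card K / 8, by omega⟩
    exact ⟨64 * t ^ 3 + 24 * t ^ 2 + 3 * t, Nat.sub_eq_of_eq_add (by rw [e]; ring)⟩
  obtain ⟨p, _, d, hp, hF⟩ := FiniteField.card' K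
  have := Fact.mk hp
  obtain ⟨m, -, rfl⟩ := (Nat.dvd_prime_pow hp).1 (show r ∣ p ^ (d : ℕ) from hF ▸ hK ▸ dvd_pow_self r two_ne_zero)
  have m0 : m ≠ 0 := fun e => absurd (Fintype.one_lt_card (α := K)) (by simp [hK, e])
  have := Fintype.ofFinite (GaloisField p m)
  have hc : Fintype.card (GaloisField p m) = p ^ m := by rw [← Nat.card_eq_fintype_card, GaloisField.card p _ m0]
  obtain ⟨b, hb⟩ := exists_aniso_one (GaloisField p m)
  obtain ⟨e⟩ := nonempty_pomega_six_minus hc hK hb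
  have o' := Nat.odd_iff.1 o
  obtain ⟨n, c, r⟩ : O.neg (qMinus 2 _ 1 b) ∈ commutator _ ∧ Nat.card L * 4 = Nat.card (O (qMinus 2 _ 1 b)) ∧
      ∃ θ' : L ≃* commutator (O (QI (GaloisField p m) 6)), ∀ i k, (θ' (H.p i k)).1 = SI _ 6 (ms i * ms k) := by
    by_cases h3 : p ^ m = 3
    · generalize p ^ m = r at *
      subst h3
      exact H.fin z1 (nd_qMinus 2 hb) (two_ne (hc ▸ o)) (by simp) (Agent.S2090.result hK) (.ofAdd (1, 0, 0)) (by decide +kernel)
        ((pomegaEquiv _).symm.trans e) f sf kf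
    · exact H.fin z1 (nd_qMinus 2 hb) (two_ne (hc ▸ o)) (by simp) (Agent.S2089.result 4 _ hK (by decide) (by simp) (by simp; omega)) _
        (cyc_ha _) ((pomegaEquiv _).symm.trans e) f sf kf
  rw [neg_mem_minus_iff (hc ▸ o) 2 hb] at n
  rw [syl, card_O_qMinus 2 hb, Nat.card_eq_fintype_card] at c
  refine ⟨_, _, _, by_contra fun h => dvd_aux (by omega) ?_ hk' c, r⟩
  obtain ⟨t, e⟩ : ∃ t, Fintype.card (GaloisField p m) = 8 * t + 7 := ⟨Fintype.card (GaloisField p m) / 8, by omega⟩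
  exact ⟨64 * t ^ 3 + 168 * t ^ 2 + 147 * t + 43, by rw [e]; ring⟩

end Cfsg.Lib.A12S
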