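import Cfsg.Agent.Lib.A12S.Def

/-!
# S3101: counting, `E` is weakly closed, control of fusion, involutions are conjugate into `E`.
-/

set_option autoImplicit false
set_option linter.unusedSectionVars false

namespace Cfsg.Lib.A12S

open Subgroup Equiv Cfsg.Lib.BG Cfsg.Lib.GW Cfsg.Lib.G2S Cfsg.Lib.Transfer
open scoped commutatorElement

variable {G : Type*} [Group G] {j : X →* G} {g n m ra rb : G} {P K Y : Subgroup X} {f f' : X → X} {π π' : Perm (Fin 7)}
  {x y e e' : X} {M : Subgroup G}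

/-! ### Counting -/

def cntLt (f : ℕ → Bool) : ℕ → ℕ
  | 0 => 0
  | n + 1 => force (cntLt f n) fun c => bif f n then c + 1 else c

theorem cntLt_eq (f : ℕ → Bool) (n : ℕ) : cntLt f n = ((Finset.range n).filter fun k => f k).card := by
  induction n with
  | zero => rfl
  | succ n ih =>
    rw [cntLt, force_eq, ih, Finset.range_add_one, Finset.filter_insert]
    cases f n <;> simp

/-- the number of elements satisfying `p` -/
def cnt (p : X → Prop) [DecidablePred p] : ℕ := cntLt (fun k => decide (p (mk k))) 512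

theorem card_eq_cnt (p : X → Prop) [DecidablePred p] : Nat.card {x // p x} = cnt p := by
  rw [cnt, cntLt_eq, ← Fintype.card_coe, ← Nat.card_eq_fintype_card]
  refine Nat.card_congr ⟨fun x => ⟨x.1.val, by simpa [val_lt, mk_val] using x.2⟩,
    fun k => ⟨mk k.1, by simpa using (Finset.mem_filter.1 k.2).2⟩, fun x => Subtype.ext (mk_val _),
    fun k => Subtype.ext (val_mk (Finset.mem_range.1 (Finset.mem_filter.1 k.2).1))⟩

theorem card_sub (P : Subgroup X) [DecidablePred (· ∈ P)] : Nat.card P = cnt (· ∈ P) := card_eq_cnt _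
theorem card_le_cnt (p : X → Prop) [DecidablePred p] (h : ∀ x ∈ K, p x) : Nat.card K ≤ cnt p :=
  card_eq_cnt p ▸ Nat.card_le_card_of_injective (fun x => ⟨x.1, h _ x.2⟩) fun _ _ e => Subtype.ext (congrArg Subtype.val e :)
theorem card_E : Nat.card E = 64 := (card_sub E).trans (by decide +kernel)

/-- the projection onto `D` -/
def dp : X →* X := homOf (fun x => ⟨0, x.d⟩) pcs cl_pcs rfl (by decide +kernel)
theorem dp_apply (x : X) : dp x = ⟨0, x.d⟩ := rfl
theorem mem_E : ∀ x, x ∈ E ↔ dp x = 1 := by simp only [dp_apply]; decide +kernel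
theorem E_dp : ∀ x, x * (dp x)⁻¹ ∈ E := by simp only [dp_apply]; decide +kernel
theorem E_sq : ∀ x ∈ E, x * x = 1 := by decide +kernel
theorem E_comm : ∀ x ∈ E, ∀ y ∈ E, x * y = y * x := by decide +kernel
theorem cm_dp (he : e ∈ E) (x : X) : ⁅e, x⁆ = ⁅e, dp x⁆ := by
  have h := E_comm _ (E_dp x) _ (nmlE.conj_mem _ (inv_mem he) (dp x))
  calc _ = e * (x * (dp x)⁻¹ * (dp x * e⁻¹ * (dp x)⁻¹)) * (x * (dp x)⁻¹)⁻¹ := by simp [commutatorElement_def, mul_assoc]
    _ = _ := by rw [h]; simp [commutatorElement_def, mul_assoc]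
theorem cent_E : ∀ x, (∀ e ∈ E, e * x = x * e) → x ∈ E := fun x h =>
  (by decide +kernel : ∀ x, (∀ e ∈ [x1, x3, mk 2], e * x = x * e) → x ∈ E) x fun e he => h e (by revert e; decide +kernel)

theorem comm_of_sq (h : ∀ y ∈ Y, y * y = 1) (hx : x ∈ Y) (hy : y ∈ Y) : x * y = y * x := by
  have i : ∀ y ∈ Y, y⁻¹ = y := fun y hy => inv_eq_of_mul_eq_one_right (h y hy)
  rw [← i _ (mul_mem hx hy), mul_inv_rev, i x hx, i y hy]

/-- `E` is the only elementary abelian subgroup of order `64`. -/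
theorem uniqE (h : ∀ y ∈ Y, y * y = 1) (hc : 64 ≤ Nat.card Y) : Y = E := by
  refine eq_of_le_of_card_le (fun y hy => by_contra fun c => ?_) (card_E ▸ hc)
  have k : E = dp.ker := Subgroup.ext mem_E
  have e1 := (E.subgroupOf Y).card_mul_index
  rw [← inf_subgroupOf_right, Nat.card_congr (subgroupOfEquivOfLe inf_le_right).toEquiv, inf_subgroupOf_right, ← relIndex, k,
    relIndex_ker, ← k] at e1
  have c1 : ∀ y ∈ Y, ∀ e ∈ E ⊓ Y, e ∈ E ∧ ⁅e, dp y⁆ = 1 := fun y hy e he =>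
    ⟨he.1, by rw [← cm_dp he.1, commutatorElement_eq_one_iff_mul_comm, comm_of_sq h he.2 hy]⟩
  have c2 : ∀ y ∈ Y, ∀ d ∈ Y.map dp, d.e = 0 ∧ d * d = 1 ∧ d * dp y = dp y * d := by
    rintro y hy _ ⟨d, hd, rfl⟩
    exact ⟨rfl, by rw [← map_mul, h d hd, map_one], by rw [← map_mul, comm_of_sq h hd hy, map_mul]⟩
  have c3 : ∀ y ∈ Y, (dp y).e = 0 ∧ dp y * dp y = 1 := fun y hy => ⟨rfl, (c2 y hy _ (mem_map_of_mem _ hy)).2.1⟩
  rw [mem_E] at c
  by_cases d : ∀ y' ∈ Y, dp y' = 1 ∨ dp y' = dp y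
  · have l1 := card_le_cnt _ (c1 y hy)
    have l2 := card_le_cnt (K := Y.map dp) (fun d => d = 1 ∨ d = dp y) (by rintro _ ⟨y', h', rfl⟩; exact d y' h')
    have := (by decide +kernel : ∀ d : X, d.e = 0 ∧ d * d = 1 → d ≠ 1 →
      cnt (fun e => e ∈ E ∧ ⁅e, d⁆ = 1) ≤ 16 ∧ cnt (fun d' => d' = 1 ∨ d' = d) ≤ 2) _ (c3 y hy) c
    nlinarith [Nat.mul_le_mul (l1.trans this.1) (l2.trans this.2)]
  · push Not at d
    obtain ⟨y', h', d1, d2⟩ := d
    have l1 := card_le_cnt (fun e => (e ∈ E ∧ ⁅e, dp y⁆ = 1) ∧ ⁅e, dp y'⁆ = 1) fun e he => ⟨c1 y hy e he, (c1 y' h' e he).2⟩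
    have l2 := card_le_cnt (fun d => (d.e = 0 ∧ d * d = 1 ∧ d * dp y = dp y * d) ∧ d * dp y' = dp y' * d) fun d hd =>
      ⟨c2 y hy d hd, (c2 y' h' d hd).2.2⟩
    have := (by decide +kernel : ∀ d : X, d.e = 0 ∧ d * d = 1 → d ≠ 1 → ∀ d' : X, d'.e = 0 ∧ d' * d' = 1 → d' ≠ 1 → d' ≠ d →
      cnt (fun e => (e ∈ E ∧ ⁅e, d⁆ = 1) ∧ ⁅e, d'⁆ = 1) ≤ 8 ∧
      cnt (fun x => (x.e = 0 ∧ x * x = 1 ∧ x * d = d * x) ∧ x * d' = d' * x) ≤ 4) _ (c3 y hy) c _ (c3 y' h') d1 d2
    nlinarith [Nat.mul_le_mul (l1.trans this.1) (l2.trans this.2)]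

theorem au_E (h : Au P f) (l : E ≤ P) (hx : x ∈ P) : f x ∈ E ↔ x ∈ E := by
  have : h.pre E = E := uniqE (fun y hy => (h.sq hy.1).1 (E_sq _ hy.2)) (by
    rw [← card_E]
    refine Nat.card_le_card_of_surjective (fun y : h.pre E => (⟨f y, y.2.2⟩ : E)) fun e => ?_
    obtain ⟨y, hy, e1⟩ := h.surj e (l e.2)
    exact ⟨⟨y, hy, e1 ▸ e.2⟩, Subtype.ext e1⟩)
  exact ⟨fun c => this.le ⟨hx, c⟩, fun c => (this.ge c).2⟩

section
variable [Finite G] (h : Em j)
include h

theorem Em.card (P : Subgroup X) : Nat.card (P.map j) = Nat.card P := card_map_of_injective h.inj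
theorem Em.pg (P : Subgroup X) : IsPGroup 2 (P.map j) := h.syl.pgroup.to_le (map_le_range _ _)

/-- `E` is weakly closed. -/
theorem Em.wc (hg : g ⋆ E.map j ≤ j.range) : g ∈ Nm j E := by
  have e := map_comap_eq_self hg
  rw [uniqE (Y := (g ⋆ E.map j).comap j) (by
    rintro y ⟨_, ⟨e, he, rfl⟩, e1⟩
    refine h.inj ?_
    rw [map_mul, ← e1, ← map_mul, ← map_mul, E_sq e he, map_one, map_one]) (by
    rw [← Em.card h, e, card_conj, Em.card h, card_E])] at e
  exact conj_eq_self_iff.1 e.symm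

theorem Em.nS : Nm j ⊤ ≤ Nm j E := fun _ hg => Em.mem_Nm' hg le_top fun _ hx => (au_E (h.au hg) le_top trivial).2 hx

/-- `N(E)` controls fusion in `E`. -/
theorem Em.ctrl (l : K ≤ E) (hg : ∀ x ∈ K, ∃ y ∈ E, j y = g * j x * g⁻¹) :
    ∃ n ∈ Nm j E, ∀ x ∈ K, n * j x * n⁻¹ = g * j x * g⁻¹ := by
  obtain ⟨S, hS⟩ := Syl.top_iff_sylow.1 h.syl
  have c : E.map j ≤ 𝐂(E.map j) := by
    rintro _ ⟨x, hx, rfl⟩ _ ⟨y, hy, rfl⟩
    rw [← map_mul, E_comm y hy x hx, map_mul]
  obtain ⟨n, hn, e⟩ := exists_normalizer_conj_eq_of_isWeaklyClosed (P := S) (W := E.map j) (X := K.map j) (g := g)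
    ⟨hS ▸ map_le_range _ _, fun g hg => conj_eq_self_iff.2 (Em.wc h (hS ▸ hg))⟩ ((map_mono l).trans c) (by
      rintro _ ⟨_, ⟨x, hx, rfl⟩, rfl⟩
      obtain ⟨y, hy, e⟩ := hg x hx
      exact c ⟨y, hy, e⟩)
  exact ⟨n, hn, fun x hx => e _ (mem_map_of_mem j hx)⟩

theorem Em.ctrl1 (he : e ∈ E) (he' : e' ∈ E) (c : IsConj (j e) (j e')) : ∃ n ∈ Nm j E, n * j e * n⁻¹ = j e' := by
  obtain ⟨g, c⟩ := isConj_iff.1 c
  obtain ⟨n, hn, k⟩ := Em.ctrl h (g := g) (zpowers_le.2 he) (by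
    rintro _ ⟨i, rfl⟩
    exact ⟨e' ^ i, zpow_mem he' i, by simp [← c]⟩)
  exact ⟨n, hn, c ▸ k e (mem_zpowers e)⟩

omit h in
theorem acN (hn : n ∈ Nm j P) : Ac j n P (ac j n) := fun _ hx => (Em.j_ac hn hx).symm
theorem Em.ac_of (a : Ac j n P f) (hx : x ∈ P) : ac j n x = f x := h.ac_eq (a x hx).symm

end

/-! ### Involutions -/

def mv (k : ℕ) (x : X) : X :=
  if k = 1 then fa x else if k = 2 then fa (fa x) else if k = 3 then fb x else if k = 4 then fb (fb x) else x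
def mvOk (k : ℕ) (x : X) : Prop := ((k = 1 ∨ k = 2) → x ∈ Pa) ∧ ((k = 3 ∨ k = 4) → x ∈ R)
instance decMvOk (k : ℕ) (x : X) : Decidable (mvOk k x) := inferInstanceAs (Decidable (_ ∧ _))
def mvK (x : X) : ℕ := 0x60000000080002000000001860000000080002000000001860000000080002000000001860000000080002000000001860000002000000080000001860000002000000080000001860000002000000080000001860000002000000080000001869a69a0000000000008a28a20000000000000000000000000000000000000000000000008a28a200000000000069a69a640021640021640021640021000000000000000000000000000000000000000000000000840019840019840019840019600020000000000000800018600020000000000000800018600020000000000000800018600020000000000000800018000000000000000000000000000000000000000000000000000000000000000000000000000000000000000000000000 >>> (6 * x.val)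
/-- a conjugate in `E` of the involution `x` -/
def re (x : X) : X := mv (mvK x / 8 % 8) (mv (mvK x % 8) x)
theorem fa_mem : ∀ x ∈ Pa, fa x ∈ Pa ∧ fa (fa (fa x)) = x := by decide +kernel
theorem fb_mem : ∀ x ∈ R, fb x ∈ R ∧ fb (fb (fb x)) = x := by decide +kernel
theorem re_spec : ∀ x : X, x * x = 1 → mvOk (mvK x % 8) x ∧ mvOk (mvK x / 8 % 8) (mv (mvK x % 8) x) ∧ re x ∈ E := by
  decide +kernel

theorem Fr.mv (h : Fr j ra rb) (h1 : ra ∈ M) (h2 : rb ∈ M) {k : ℕ} (o : mvOk k x) : ∃ g ∈ M, g * j x * g⁻¹ = j (mv k x) := by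
  unfold A12S.mv
  split_ifs with c1 c2 c3 c4
  · exact ⟨_, h1, h.ha x (o.1 (.inl c1))⟩
  · exact ⟨_, mul_mem h1 h1, h.ha.mul h.ha (fun x hx => (fa_mem x hx).1) x (o.1 (.inr c2))⟩
  · exact ⟨_, h2, h.hb x (o.2 (.inl c3))⟩
  · exact ⟨_, mul_mem h2 h2, h.hb.mul h.hb (fun x hx => (fb_mem x hx).1) x (o.2 (.inr c4))⟩
  · exact ⟨1, one_mem _, by simp⟩

/-- Every involution `x` is conjugate to `re x ∈ E` under `⟨ra, rb⟩`. -/
theorem Fr.toE (h : Fr j ra rb) (h1 : ra ∈ M) (h2 : rb ∈ M) (x2 : x * x = 1) :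
    re x ∈ E ∧ ∃ g ∈ M, g * j x * g⁻¹ = j (re x) := by
  obtain ⟨o1, o2, o3⟩ := re_spec x x2
  obtain ⟨g, hg, e⟩ := h.mv h1 h2 o1
  obtain ⟨k, hk, e'⟩ := h.mv h1 h2 o2
  exact ⟨o3, k * g, mul_mem hk hg, by rw [re, ← e', ← e]; group⟩

theorem Fr.isConj_re (h : Fr j ra rb) (x2 : x * x = 1) : IsConj (j x) (j (re x)) :=
  let ⟨_, g, _, e⟩ := h.toE (M := ⊤) trivial trivial x2; isConj_iff.2 ⟨g, e⟩
theorem Fr.raα (h : Fr j ra rb) : ra ∈ 𝐂[j α] := h.ha.cent (by decide +kernel) (by decide +kernel)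
theorem Fr.rbW (h : Fr j ra rb) (hx : x ∈ W) : rb ∈ 𝐂[j x] :=
  h.hb.cent ((by decide +kernel : ∀ x ∈ W, x ∈ R) x hx) ((by decide +kernel : ∀ x ∈ W, fb x = x) x hx)
theorem j_cent (c : ∀ g ∈ gens, g * x = x * g) : j.range ≤ 𝐂[j x] := by
  rintro _ ⟨y, rfl⟩
  have : (𝐂[x] : Subgroup X) = ⊤ := gens_ind fun g hg => mem_cent1.2 (c g hg)
  rw [mem_cent1, ← map_mul, ← map_mul, mem_cent1.1 (this.ge (mem_top y))]
theorem Sα : j.range ≤ 𝐂[j α] := j_cent (by decide +kernel)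
theorem Sβ : j.range ≤ 𝐂[j β] := j_cent (by decide +kernel)
theorem Sγ : j.range ≤ 𝐂[j γ] := j_cent (by decide +kernel)

/-! ### Maps given on generators -/

/-- `∏ Lᵢ ^ (bit i of n)` -/
def evl : List X → ℕ → X
  | [], _ => 1
  | g :: L, n => bif n % 2 == 1 then g * evl L (n / 2) else evl L (n / 2)

theorem evl_mem {L : List X} (h : ∀ g ∈ L, g ∈ P) (k : ℕ) : evl L k ∈ P := by
  induction L generalizing k with
  | nil => exact one_mem _
  | cons g L ih =>
    have := ih (fun g hg => h g (List.mem_cons_of_mem _ hg)) (k / 2)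
    rw [evl]
    cases k % 2 == 1
    exacts [this, mul_mem (h g List.mem_cons_self) this]

theorem au_evl (a : Au P f) {L : List X} (h : ∀ g ∈ L, g ∈ P) (k : ℕ) : f (evl L k) = evl (L.map f) k := by
  induction L generalizing k with
  | nil => exact a.one
  | cons g L ih =>
    have h' := fun g hg => h g (List.mem_cons_of_mem _ hg)
    rw [List.map_cons, evl, evl]
    cases k % 2 == 1
    exacts [ih h' _, by rw [cond_true, cond_true, a.mul _ (h g List.mem_cons_self) _ (evl_mem h' _), ih h']]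

theorem ac_evl {L L' : List X} (h : List.Forall₂ (fun g g' => n * j g * n⁻¹ = j g') L L') (k : ℕ) :
    n * j (evl L k) * n⁻¹ = j (evl L' k) := by
  induction h generalizing k with
  | nil => simp [evl]
  | cons e _ ih =>
    rw [evl, evl]
    cases k % 2 == 1
    exacts [ih _, by rw [cond_true, cond_true, map_mul, map_mul, ← e, ← ih]; group]

/-- the action of a map of the coordinates on `E` -/
def pe (p : Fin 7 → Fin 7) (x : X) : X := evl ([0, 1, 2, 3, 4, 5].map fun i => al (p i) * al (p 6)) x.e.1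
theorem pe_id : ∀ x ∈ E, pe id x = x := by decide +kernel
theorem al_mem : ∀ i, al i ∈ E := by decide +kernel
theorem al6 : al 6 = α := by decide +kernel
theorem al_inj : Function.Injective al := by decide +kernel
theorem wt6 : ∀ x ∈ E, wt x = 6 ↔ ∃ i, al i = x := by decide +kernel

theorem Pm.ac (h : Pm j n π) : Ac j n E (pe π) := fun x hx => by
  conv_lhs => rw [← pe_id x hx]
  refine ac_evl ?_ _
  simp only [List.map_cons, List.map_nil, List.forall₂_cons, List.forall₂_nil_left_iff, and_true, id, map_mul, ← h _]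
  refine ⟨?_, ?_, ?_, ?_, ?_, ?_⟩ <;> group

theorem Pm.nm [Finite G] (h : Pm j n π) : n ∈ Nm j E := h.ac.nm le_rfl fun _ _ => evl_mem (by
  simp only [List.forall_mem_map]
  exact fun _ _ => mul_mem (al_mem _) (al_mem _)) _

theorem exists_pm [Finite G] (h : Em j) (hw : ∀ e ∈ E, ∀ e' ∈ E, IsConj (j e) (j e') → wt e = wt e') (hn : n ∈ Nm j E) :
    ∃ π, Pm j n π := by
  have : ∀ i, ∃ k, al k = ac j n (al i) := fun i => (wt6 _ (h.ac_mem hn (al_mem i))).1
    ((hw _ (al_mem i) _ (h.ac_mem hn (al_mem i)) ((acN hn).isConj (al_mem i))).symm.trans ((wt6 _ (al_mem i)).2 ⟨i, rfl⟩))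
  choose p hp using this
  have : Function.Injective p := fun i k e => al_inj ((h.au hn).inj (al_mem i) (al_mem k) (by rw [← hp, ← hp, e]))
  exact ⟨Equiv.ofBijective p (Finite.injective_iff_bijective.1 this), fun i => by
    rw [Equiv.ofBijective_apply, hp, Em.j_ac hn (al_mem i)]⟩

end Cfsg.Lib.A12S
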