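import Cfsg.Agent.Lib.A12S.Model

/-!
# S3101 (W): finite facts on `U`, `W` and `QW c` (`Q1 W`, `Q2 W`)
-/

set_option autoImplicit false
set_option exponentiation.threshold 600
set_option synthInstance.maxSize 2000

namespace Cfsg.Lib.A12S.Wb

/-- `Q1 W` and `Q2 W` -/
def QW (c : Bool) : Subgroup X := sg
  (cond c 0x100810081008100802400240024002400000000000000000000000000000000004200420042004208001800180018001
    0x42004200420042010081008100810080000000000000000000000000000000002400240024002408001800180018001)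
  (cond c [15, 16, 32, 69, 262] [15, 16, 32, 70, 259]) (by cases c <;> decide +kernel)
instance decQW (c : Bool) : DecidablePred (· ∈ QW c) := sgDec _ _ _

/-- the elements of `W` outside `⟨β⟩` -/
def WL : List ℕ := [16, 31, 32, 47, 48, 63]
/-- the elements of `W` -/
def lW : List ℕ := 0 :: 15 :: WL
/-- generators of `U` -/
def gU : List ℕ := [3, 5, 9, 16, 32, 64, 256]
/-- generators of `QW c` modulo `W` -/
def gQ (c : Bool) : List ℕ := cond c [69, 262] [70, 259]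
/-- the elements of `QW c` -/
def lQ (c : Bool) : List ℕ := cond c [0, 15, 16, 31, 32, 47, 48, 63, 69, 74, 85, 90, 101, 106, 117, 122, 262, 265, 278, 281, 294, 297, 310, 313,
  323, 332, 339, 348, 355, 364, 371, 380]
  [0, 15, 16, 31, 32, 47, 48, 63, 70, 73, 86, 89, 102, 105, 118, 121, 259, 268, 275, 284, 291, 300, 307, 316,
  325, 330, 341, 346, 357, 362, 373, 378]
/-- the elements of order four of `U` -/
def l4 : List ℕ := [69, 70, 73, 74, 85, 86, 89, 90, 101, 102, 105, 106, 117, 118, 121, 122, 259, 262, 265, 268, 275, 278, 281, 284,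
  291, 294, 297, 300, 307, 310, 313, 316, 323, 325, 330, 332, 339, 341, 346, 348, 355, 357, 362, 364, 371, 373, 378, 380]

theorem of_val {L : List ℕ} {p : X → Prop} (H : ∀ k ∈ L, p (mk k)) {x : X} (h : x.val ∈ L) : p x := mk_val x ▸ H _ h

theorem cβ : ∀ x, x * β = β * x := by decide +kernel
theorem β2 : β * β = 1 ∧ β ≠ 1 ∧ β ∈ U ∧ β ∈ E := by decide +kernel
theorem sqU : ∀ u ∈ U, u * u = 1 ∨ u * u = β := by decide +kernel
theorem sqE : ∀ e ∈ E, e * e = 1 := by decide +kernel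
theorem mW : ∀ w ∈ W, w.val ∈ lW := by decide +kernel
theorem mW' : ∀ w ∈ W, (w = 1 ∨ w = β) ∨ w.val ∈ WL := by decide +kernel
theorem mQ : ∀ c, ∀ w ∈ QW c, w.val ∈ lQ c := by decide +kernel
theorem m4 : ∀ u ∈ U, u * u = β → u.val ∈ l4 := by decide +kernel
theorem mU : ∀ k ∈ gU, mk k ∈ U := by decide +kernel
theorem cW (s : X) (h : ∀ u ∈ U, s * u = u * s) : s ∈ W :=
  (by decide +kernel : ∀ s, (∀ k ∈ gU, s * mk k = mk k * s) → s ∈ W) s fun k m => h _ (mU k m)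
theorem cU (s : X) (h : ∀ u ∈ U, s * u * s⁻¹ * u⁻¹ ∈ W) : s ∈ U :=
  (by decide +kernel : ∀ s, (∀ k ∈ gU, s * mk k * s⁻¹ * (mk k)⁻¹ ∈ W) → s ∈ U) s fun k m => h _ (mU k m)
theorem wU {w u : X} (h : w ∈ W) (m : u ∈ U) : w * u = u * w ∧ w * u * (w * u) = u * u :=
  of_val (p := fun w => w * u = u * w ∧ w * u * (w * u) = u * u) ((by decide +kernel : ∀ u ∈ U, ∀ k ∈ lW,
    mk k * u = u * mk k ∧ mk k * u * (mk k * u) = u * u) u m) (mW w h)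
theorem WE : W ≤ E := (by decide +kernel : ∀ w ∈ W, w ∈ E)
theorem wE {w e : X} (h : w ∈ W) (m : e ∈ E) : w * e = e * w :=
  of_val (p := fun w => w * e = e * w) ((by decide +kernel : ∀ e ∈ E, ∀ k ∈ lW, mk k * e = e * mk k) e m) (mW w h)
theorem wL : ∀ k ∈ WL, mk k ∈ W ∧ ¬ (mk k = 1 ∨ mk k = β) := by decide +kernel
theorem w3 : ∀ u ∈ W, ∀ v ∈ lW, ∀ w ∈ WL, ∃ y ∈ [u.val, v, (u * (mk v)⁻¹).val], y ∈ [0, 15, w, (mk w * β).val] := by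
  decide +kernel
theorem qU : ∀ c, (∀ x ∈ QW c, x ∈ U ∧ (x ∈ QW !c → x ∈ W) ∧ x1 * x * x1⁻¹ ∈ QW !c) ∧ (∀ x ∈ W, x ∈ QW c) ∧ z1 ∉ QW c ∧
    ∀ k ∈ gQ c, mk k ∈ QW c := by decide +kernel
theorem qC {c : Bool} {q n : X} (a : q ∈ QW c) (b : n ∈ QW !c) :
    q * n = n * q ∧ (q * q = β → n * n = β → q * n * (q * n) ≠ β ∧ q * n ∉ W) :=
  of_val (p := fun n => q * n = n * q ∧ (q * q = β → n * n = β → q * n * (q * n) ≠ β ∧ q * n ∉ W)) ((by decide +kernel :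
    ∀ c, ∀ q ∈ QW c, ∀ n ∈ lQ !c, q * mk n = mk n * q ∧
      (q * q = β → mk n * mk n = β → q * mk n * (q * mk n) ≠ β ∧ q * mk n ∉ W)) c q a) (mQ _ n b)
theorem qC' : ∀ c, ∀ v ∈ U, (∀ k ∈ gQ c, v * mk k = mk k * v) → v ∈ QW !c := by decide +kernel
theorem q4 : ∀ u ∈ U, u * u = β → ∀ v ∈ l4, u * (mk v)⁻¹ * (u * (mk v)⁻¹) = β →
    ∃ c, u ∈ QW c ∧ ∀ g ∈ gQ c, mk g * u⁻¹ ∈ W ∨ mk g * (mk v)⁻¹ ∈ W ∨ mk g * (u * (mk v)⁻¹)⁻¹ ∈ W := by decide +kernel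
theorem qX : ∀ c, ∀ x ∉ Ux, ∃ k ∈ gQ c, x * mk k * x⁻¹ ∉ QW c := by decide +kernel
theorem qA : ∀ w ∈ W, mk 262 * w ∈ QW true ∧ mk 262 * mk 70 * w = mk 70 * (mk 262 * w) ∧ ∀ k ∈ lW,
    mk 259 * (mk 262 * w) * mk k ∈ E ∧ nu (mk 69 * mk 70) ≠ nu (mk 259 * (mk 262 * w) * mk k) := by decide +kernel
theorem qB : mk 69 ∈ QW true ∧ mk 69 ∉ W ∧ mk 262 ∈ QW true ∧ mk 262 ∉ W ∧ mk 70 ∈ QW false ∧ mk 70 ∉ W ∧ mk 259 ∈ QW false ∧
    mk 259 ∉ W ∧ mk 69 * mk 70 ∈ E ∧ x1 ∈ E := by decide +kernel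

/-- the invariant `ν` detects the subgroup `P` -/
def Det (ν : X → ℕ) (P : Subgroup X) : Prop := ∀ e ∈ P, e ∈ E ∧ ∀ v ∈ WL, ∃ v' ∈ WL, ∃ v'' ∈ WL, ∀ m ∈ [0, 15],
  ν (mk v') = ν (mk m * mk v'') → ν (e * (mk v)⁻¹ * mk v') ≠ ν (e * (mk v)⁻¹ * (mk m * mk v''))

theorem detA : Det nu V12 := by unfold Det; decide +kernel
theorem detW : Det wt K4 := by unfold Det; decide +kernel
theorem alF : (∀ i : Fin 7, al i * al i = 1 ∧ (i.1 < 4 → al i ∈ K4) ∧ (4 ≤ i.1 → al i ∈ W)) ∧ al 0 * z1 = al 1 ∧ al 0 ∉ Ux ∧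
    al 0 ∈ E ∧ z1 ∈ E ∧ z1 ∈ U ∧ ∀ v ∈ V1, v ∈ V12 := by decide +kernel

end Cfsg.Lib.A12S.Wb
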