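import Cfsg.Agent.Lib.A12S.Tw

/-!
# S3101 (F1): the computations for the frame.
-/

set_option autoImplicit false
set_option exponentiation.threshold 600
set_option synthInstance.maxSize 2000
set_option maxRecDepth 100000

namespace Cfsg.Lib.A12S

open Subgroup Cfsg.Lib.G2S
open scoped commutatorElement

def LB : List X := [1, z1, z2, γ, β, α, z1 * γ, z2 * γ]
def tA (w : X) : List X := [z1, z2, γ, x1 * w, x2 * (σ * w * σ), x3, a, b, σ]
def tB (e : X) : List X := [z1, z2, γ, x1, x2, x3, a * e * (σ * e * σ), b * e, σ]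
theorem tA_tw : ∀ w ∈ LB, TW (tA w) := by unfold tA; fast
theorem tB_tw : ∀ w ∈ LB, TW (tB w) := by unfold tB; fast
theorem tAB_mem : ∀ w ∈ LB, ∀ e ∈ LB, ∀ g ∈ LX.take 8, ev (tA w) (ev (tB e) g) ∈ Pa := by unfold tA tB; fast
theorem fa_ev : ∀ x ∈ Pa, evl (LX.take 8) (ix x.val) = x ∧ evl ((LX.take 8).map fa) (ix x.val) = fa x := by fast

/-- after a twist, `(σ h)⁴` is `fa` -/
def GA (L : List X) : Prop := ∃ w ∈ LB, ∃ e ∈ LB, ∀ g ∈ LX.take 8,
  (It σ ix L)^[4] (ev (tA w) (ev (tB e) g)) = ev (tA w) (ev (tB e) (fa g))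
instance decGA (L : List X) : Decidable (GA L) := by
  have h := @Iff.rfl (GA L)
  conv at h => rhs; unfold GA tA tB
  fsimp at h
  exact decidable_of_iff' _ h

theorem bfA : ∀ y1 ∈ E, ⁅y1, a * b⁆ = 1 → ∀ y2 ∈ E, ⁅y2, a⁆ = 1 → ∀ y3 ∈ E, ⁅y3, b⁆ = 1 →
    ev [⁅y1, b⁆, ⁅y2, b⁆, ⁅y3, a⁆, y1, y2, y3] y1 = x1 → ev [⁅y1, b⁆, ⁅y2, b⁆, ⁅y3, a⁆, y1, y2, y3] y2 = x2 →
    ∀ e ∈ E, e * b * (e * b) = 1 → ∀ e' ∈ E, e' * a * (e' * a) = 1 → e * b * (e' * a) = e' * a * (e * b) →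
    ev [⁅y1, b⁆, ⁅y2, b⁆, ⁅y3, a⁆, y1, y2, y3, e * b, e' * a] (e * b) = a →
    GA [⁅y1, b⁆, ⁅y2, b⁆, ⁅y3, a⁆, y1, y2, y3, e * b, e' * a] := by
  fast

/-- `{0, 2}` -/
def t02 : X := mk 5
def LR : List X := [β, γ, z1, a, x3, t02, σ, b]
def ixR (n : ℕ) : ℕ := Nat.mod (Nat.shiftRight 0xc30000c700e3e70000e6e200c60000c2d30000d700f3f70000f6f200d60000d2d10000d500f1f50000f4f000d40000d0c10000c500e1e50000e4e000c40000c0cb0000cf00eaee0000efeb00ce0000cadb0000df00fafe0000fffb00de0000dad90000dd00f8fc0000fdf900dc0000d8c90000cd00e8ec0000ede900cc0000c84b00004f006a6e00006f6b004e00004a5b00005f007a7e00007f7b005e00005a5900005d00787c00007d79005c0000584900004d00686c00006d69004c000048430000470063670000666200460000425300005700737700007672005600005251000055007175000074700054000050410000450061650000646000440000408b00008f00aaae0000afab008e00008a9b00009f00babe0000bfbb009e00009a9900009d00b8bc0000bdb9009c0000988900008d00a8ac0000ada9008c0000888300008700a3a70000a6a200860000829300009700b3b70000b6b200960000929100009500b1b50000b4b000940000908100008500a1a50000a4a000840000800b00000f002a2e00002f2b000e00000a1b00001f003a3e00003f3b001e00001a1900001d00383c00003d39001c0000180900000d00282c00002d29000c00000803000007002327000026220006000002130000170033370000363200160000121100001500313500003430001400001001000005002125000024200004000000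 (Nat.mul n 8)) 256
def tC : List (List X) := [LX, [z1, z2, γ, x1, x2, x3, a, b, γ * σ], [z1, z2, γ, x1, x2, x3, α * a, z2 * b, x3 * σ],
  [z1, z2, γ, x1, x2, x3, α * a, z2 * b, γ * x3 * σ]]
theorem tC_tw : ∀ L ∈ tC, TW L ∧ (∀ g ∈ LR, ev L g ∈ R) ∧
    ∃ p ∈ [1, t02], ∀ x ∈ Pa, ev L x ∈ Pa ∧ fa (ev L x) = ev L (p * fa x * p⁻¹) := by fast
theorem fb_ev : ∀ x ∈ R, evl LR (ixR x.val) = x ∧ evl (LR.map fb) (ixR x.val) = fb x := by fast

/-- after a twist, `(x1 h)^m` is `fb` up to an inner automorphism -/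
def GB (L : List X) : Prop := ∃ m ∈ [2, 4], ∃ T ∈ tC, ∃ p ∈ [1, a, σ, a * σ], ∀ g ∈ LR,
  (It x1 ixR L)^[m] (ev T g) = ev T (p * fb g * p⁻¹)
instance decGB (L : List X) : Decidable (GB L) := by
  have h := @Iff.rfl (GB L)
  conv at h => rhs; unfold GB
  fsimp at h
  exact decidable_of_iff' _ h

theorem bfB : ∀ y1 ∈ A ⊓ U, y1 * z1⁻¹ ∉ W → ∀ y2 ∈ A ⊓ U, evl [β, γ, y1, y2] (ixR y1.val) = z1 → evl [β, γ, y1, y2] (ixR y2.val) = a →
    ∀ y3 ∈ U, Rel ixR (LR.take 6) [β, γ, y1, y2, x3, y3] t02 y3 → ∀ y4 ∈ U, evl [β, γ, y1, y2, x3, y3, y4] (ixR y3.val) = t02 →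
    Rel ixR (LR.take 7) [β, γ, y1, y2, x3, y3, y4] σ y4 → ∀ y5 ∈ A, y5 ∉ U → Rel ixR LR [β, γ, y1, y2, x3, y3, y4, y5] b y5 →
    evl [β, γ, y1, y2, x3, y3, y4, y5] (ixR y5.val) = b → GB [β, γ, y1, y2, x3, y3, y4, y5] := by
  fast

end Cfsg.Lib.A12S
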