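import Cfsg.Agent.Lib.A12S.R1
import Cfsg.Agent.Lib.A12S.R2a

/-!
# S3101 (R2): construction of `Ω₇(q)` inside `G`.

Proof (see also `R2a`; indices `0..6`, `E` = even diagonal sign matrices `= ⟨ao i⟩`, `M = Om F`).
(a) For `i ≠ 6` build `φᵢ : C_M(ao i) →* G` injective, `φᵢ (ao k) = al k`, `φᵢ = φ` on `C_M(ao i, ao 6)`, range normal in
  `C_G(al i)`, and `C_G(al i)` acts on it as in `Pk` (only `i = 2, 3` are needed).  Take `π` even with `π 6 = i`,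
  `n` from `perm`, `ψ y = n φ(s⁻¹ y s) n⁻¹`, `s = sp 1 π`.  `K = Ω(⟨eᵢ, e₆⟩^⊥) ≅ Ω₅(q)` is perfect and
  `C_M(ao i, ao 6) = K E`; `φ K` and `ψ K` are both the perfect residual of `C_G(al i, al 6)` (by `Pk.act`, `Pk.cen`,
  `C_G(al 6) / range φ` is abelian-by-…: `x ↦ σ` has kernel `range φ`).  So `φ⁻¹ ψ ∈ Aut Ω₅ = PΓO₅`
  (`Orth.AutStd`, `Gam`, `rho`) fixes `E ∩ K`, hence is induced by (diagonal signs)·(field automorphism) `s̃`;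
  put `φᵢ = ψ ∘ conj s̃⁻¹`.
(b) `s := φ₃ (sw)`.  `h1` clear; `h3`: `r3, sw ∈ C_M(ao 3)`.  `h2`: `y ∈ C_M(ao 5, ao 6) = K' E`, `K' = Ω(e₀..e₄)`.  On `E` and on
  `C_{K'}(ao 3)` it holds inside `φ₃`.  `s` normalizes `φ K'` (perfect residual of `C_G(al 5, al 6)`), and the
  automorphism `θ = (conj sw)⁻¹ φ⁻¹ (conj s) φ` of `K'` fixes `C_{K'}(ao 3)`, so `θ ∈ {1, conj r_{e₃}}`.  If
  `θ = conj r_{e₃}`: `s ∈ C_G(al 2)` is an involution, `|Aut F|` is odd, so `s = φ₂ m`; `m = sw · e`, `e ∈ E`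
  (`C_M(E) = E`), `e ∈ {23, 2356, 0124, 012456}` (as sets of `-1` places), so the `-1`-space of `m` has dimension 4 and
  `m` is conjugate in `C_M(ao 2)` to a product of four `ao k`, whereas `sw` is conjugate in `C_M(ao 3)` to a product of two:
  contradiction with `nc` and `perm` (`(u₁ ± u₂)/2` for `u₁ = e₀ ∓ e₁`, `u₂ = e₅ ∓ e₆` is an orthonormal pair).
(c) `univ7` gives `Φ`; injective as `Ω₇(q)` is simple (`Orth.Simple`).  `range Φ = ⟨range φ, R₃⟩` with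
  `R₃ = g (range φ) g⁻¹` for any `g` with `g (al 6) g⁻¹ = al 3`; `x ∈ C(al 6)` is `φ m · x'` where `x'` centralizes all
  `al k` (`FA σ (ao k) (ao k)`), so `x'` normalizes `range φ` and `R₃`.
-/

set_option autoImplicit false

namespace Cfsg.Lib.A12S

open Equiv Subgroup Cfsg.Lib.Orth Cfsg.Lib.Orth.Mono7

namespace R2

open K2

variable {F : Type*} [Field F] [Finite F] {G : Type*} [Group G] {al : Fin 7 → G} {φ : O (Q7 F) → G}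
  (h2 : (2 : F) ≠ 0) (hs : ¬ IsSquare (2 : F))
include h2

/-- the reflection moving `diag(-1, -1, 1, …)` to `sw` -/
theorem refl_sw : refl (Q7 F) ![-1, -1, 0, 0, 0, 1, -1] * SI F 7 (ms 0 * ms 1) = sw F * refl (Q7 F) ![-1, -1, 0, 0, 0, 1, -1] :=
  O.ext fun v => funext fun i => by
  have h4 : (4 : F) ≠ 0 := by rw [show (4 : F) = 2 * 2 by norm_num]; exact mul_ne_zero h2 h2
  have e : (1 + 1 + 1 + 1 : F) = 4 := by norm_num
  have e0 : ⇑(swap 0 1 * swap 5 6 : Perm (Fin 7))⁻¹ = ![1, 0, 2, 3, 4, 6, 5] := by decide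
  have e1 : (ms 0 * ms 1 : Fin 7 → ℤˣ) = ![-1, -1, 1, 1, 1, 1, 1] := by decide
  simp only [O.mul_apply, Orth.refl_apply, polar_qDiag, qDiag_apply, sw, sp_apply, SI_apply, Pi.sub_apply, Pi.smul_apply, e0, e1,
    Fin.sum_univ_seven]
  fin_cases i <;> simp [e] <;> field_simp <;> ring

include hs

theorem exists_g : ∃ g ∈ Om F, g * SI F 7 (ms 0 * ms 1) * g⁻¹ = sw F ∧ ∀ k : Fin 7, k = 2 ∨ k = 3 ∨ k = 4 → g * ao F k = ao F k * g := by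
  have q : Q7 F ![-1, -1, 0, 0, 0, 1, -1] = 2 ^ 2 := by simp [qDiag_apply, Fin.sum_univ_seven]; norm_num
  have q' := q.trans_ne (pow_ne_zero 2 h2)
  refine ⟨refl _ ![-1, -1, 0, 0, 0, 1, -1] * SI F 7 (ms 4), ?_, ?_, fun k hk => ?_⟩
  · rw [Om, mem_commutator_iff (nd7 h2) (not_exc_of_two_ne_zero h2), map_mul, map_mul, SI_ms, dickson_refl _ q', spinor_refl _ q',
      dickson_refl _ ((QI_single _).trans_ne one_ne_zero), spinor_refl _ ((QI_single _).trans_ne one_ne_zero), q, QI_single]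
    simp
  · rw [mul_assoc _ (SI F 7 (ms 4)), ← map_mul, mul_comm (ms 4), map_mul _ _ (ms 4), ← mul_assoc, refl_sw h2]; group
  · refine mem_centralizer_singleton_iff.1 (mul_mem ((comm_ao h2).2 (.inl (refl_apply_of_perp ?_))) (mem_centralizer_singleton_iff.2 ?_))
    · rw [QuadraticMap.polar_comm, polar_qDiag_single]; rcases hk with rfl | rfl | rfl <;> simp
    · rw [ao, sp_eq, ← map_mul, mul_comm, map_mul]

theorem exists_loc (P : Lc al 6 φ) (π : Perm (Fin 7)) (n : G) (hn : ∀ k, n * al k * n⁻¹ = al (π k)) (f : Fin 5 ↪ Fin 7)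
    (hf : ∀ k, (¬ ∃ l, f l = k) ↔ k = π 6 ∨ k = 6) (h6 : π 6 ≠ 6) : ∃ ψ, Lc al (π 6) ψ ∧ (∀ y ∈ C F (π 6), y ∈ C F 6 → ψ y = φ y) ∧
      ∀ y ∈ C F (π 6), ∃ y' ∈ C F 6, ψ y = n * φ y' * n⁻¹ := by
  have Q := P.tr (MulAut.conj (sp F 1 π)) π n (conj_ao π) (fun σ y => by simp [fa_sp]) hn
  obtain ⟨ε, σ, h⟩ := Q.mat h2 hs f hf h6 P
  have m : ∀ {i y}, y ∈ C F i → (tw ε σ).symm y ∈ C F i := fun hy => (aut_mem (tw_ao ε σ _)).1 (by simpa using hy)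
  refine ⟨_, Q.tr (tw ε σ) 1 1 (tw_ao ε σ) (fun τ => tw_fa ε σ τ) (by simp), fun y hy hy' => ?_,
    fun y hy => ⟨(MulAut.conj (sp F 1 π)).symm ((tw ε σ).symm y), (aut_mem (conj_ao π 6)).1 (by
      rw [MulEquiv.apply_symm_apply]; exact m hy), by simp⟩⟩
  simpa using h _ (m hy) (m hy')

omit h2 hs in
theorem del_dec : ∀ δ : Fin 7 → ℤˣ, ∏ i, δ i = 1 → δ 0 = δ 1 → δ 0 = δ 4 → δ 0 ≠ δ 3 → δ 5 = δ 6 → ∃ c, (c = 3 ∨ c = 4) ∧
    ![δ 0, 1, 1, 1, δ 0 * δ 5, δ 5, 1] * act (swap 0 1 * swap 5 6) (ms 2 * ms c * ![δ 0, 1, 1, 1, δ 0 * δ 5, δ 5, 1]) =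
      act (swap 0 1 * swap 5 6) δ := by decide +kernel

theorem sw_mem {i : Fin 7} (h : (swap 0 1 * swap 5 6 : Perm (Fin 7)) i = i) : sw F ∈ C F i :=
  ⟨(sp_mem h2 hs).2 ⟨by simp, by simp [Perm.sign_swap']⟩, mem_centralizer_singleton_iff.2 (mul_inv_eq_iff_eq_mul.1
    ((conj_ao _ i).trans (by rw [h])))⟩

theorem SI_mem {δ : Fin 7 → ℤˣ} (h : ∏ i, δ i = 1) (i : Fin 7) : SI F 7 δ ∈ C F i :=
  ⟨sp_eq (F := F) δ ▸ (sp_mem h2 hs).2 ⟨h, by simp⟩, mem_centralizer_singleton_iff.2 (by rw [ao, sp_eq, ← map_mul, mul_comm, map_mul])⟩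

theorem key {φ₂ φ₃ : O (Q7 F) → G} (P : Lc al 6 φ) (P₂ : Lc al 2 φ₂) (P₃ : Lc al 3 φ₃) (e₂ : ∀ y ∈ C F 2, y ∈ C F 6 → φ₂ y = φ y)
    (e₃ : ∀ y ∈ C F 3, y ∈ C F 6 → φ₃ y = φ y) (n1 : ¬ IsConj (al 0 * al 1) (al 0 * al 1 * (al 2 * al 3)))
    (n2 : ¬ IsConj (al 0 * al 1) (al 0 * al 1 * (al 2 * al 4))) :
    ∀ y ∈ C F 5, y ∈ C F 6 → φ₃ (sw F) * φ ((sw F)⁻¹ * y * sw F) * (φ₃ (sw F))⁻¹ = φ y := by
  let π : Perm (Fin 7) := swap 0 1 * swap 5 6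
  have ca : ∀ k, sw F * ao F k * (sw F)⁻¹ = ao F (π k) := conj_ao π
  have s3 := sw_mem h2 hs (i := 3) (by decide)
  have sa : ∀ k, φ₃ (sw F) * al k * (φ₃ (sw F))⁻¹ = al (π k) := fun k => by rw [← P₃.ao, ← P₃.cj s3 (ao_mem h2 hs ..), ca, P₃.ao]
  have Q : Lc al 5 _ := P.tr (MulAut.conj (sp F 1 π)) π _ (conj_ao π) (fun σ y => by simp [fa_sp]) sa
  have m56 : ∀ {y}, y ∈ C F 5 → (sw F)⁻¹ * y * sw F ∈ C F 6 := fun {y} hy => (aut_mem (conj_ao π 6)).1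
    (((MulAut.conj (sw F)).apply_symm_apply y).symm ▸ hy : MulAut.conj (sw F) ((MulAut.conj (sw F)).symm y) ∈ C F 5)
  obtain ⟨ε, σ, h⟩ := Q.mat h2 hs (Fin.castLEEmb (by decide)) (by decide) (by decide) P
  replace h : ∀ y ∈ C F 5, y ∈ C F 6 → φ₃ (sw F) * φ ((sw F)⁻¹ * y * sw F) * (φ₃ (sw F))⁻¹ = φ (tw ε σ y) := h
  obtain ⟨rfl, hε⟩ := triv (⟨![0, 1, 2, 4], by decide⟩ : Fin 4 ↪ Fin 7) h2 (by decide) (ε := ε) (σ := σ) fun g hg => by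
    have a := fun i => ext_C h2 (⟨![0, 1, 2, 4], by decide⟩ : Fin 4 ↪ Fin 7) (i := i) hg
    refine P.inj _ ((aut_mem (tw_ao ε σ 6)).2 (a 6 (by decide))) _ (a 6 (by decide)) ?_
    have b := mul_mem (mul_mem (inv_mem s3) (a 3 (by decide))) s3
    rw [← h _ (a 5 (by decide)) (a 6 (by decide)), ← e₃ _ b (m56 (a 5 (by decide))), ← P₃.cj s3 b, ← e₃ _ (a 3 (by decide)) (a 6 (by decide))]
    congr 1; group
  have tw1 : ∀ y, tw ε (1 : F ≃+* F) y = SI F 7 ε * y * (SI F 7 ε)⁻¹ := fun y => by rw [tw_apply, map_one]; rfl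
  by_cases c : ε 0 = ε 3
  · intro y hy hy'
    rw [h y hy hy', ind2 h2 hs (Fin.castLEEmb (by decide)) (by decide) (show (5 : Fin 7) ≠ 6 by decide) (P := fun y => tw ε 1 y = y)
      (fun k _ => ?_) (fun y _ _ k e => by rw [map_mul, e, tw_ao]) y hy hy']
    have : ε ∘ Fin.castLEEmb (show 5 ≤ 7 by decide) = fun _ => ε 0 := funext fun i => by
      fin_cases i
      exacts [rfl, hε 1 0, hε 2 0, c.symm, hε 3 0]
    rw [tw1, SI_ext, this]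
    rcases Int.units_eq_one_or (ε 0) with e | e <;> rw [e]
    · rw [show SI F 5 (fun _ => 1) = 1 from map_one _]; simp
    · rw [show SI F 5 (fun _ => -1) = _ from signHom_neg _ _, ← mem_center_iff.1 neg_mem_center, mul_inv_cancel_right]
  exfalso
  obtain ⟨m, hm, σ, u, em, hu⟩ := P₂.dec (φ₃ (sw F)) (mul_inv_eq_iff_eq_mul.1 (sa 2))
  have ac : ∀ y ∈ C F 2, φ₃ (sw F) * φ₂ y * (φ₃ (sw F))⁻¹ = φ₂ (m * fa σ y * m⁻¹) := fun y hy => by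
    rw [P₂.cj hm (fa_mem.2 hy), ← hu y hy, em]; group
  have s2 := sw_mem h2 hs (i := 2) (by decide)
  obtain ⟨δ, hδ⟩ := mem_range_signHom (Pi.basisFun F _) hoI (g := (sw F)⁻¹ * m) fun k => by
    rw [Pi.basisFun_apply, ← comm_ao h2, mem_centralizer_singleton_iff]
    have := P₂.inj _ (mul_mem (mul_mem hm (ao_mem h2 hs 2 k)) (inv_mem hm)) _ (ao_mem h2 hs 2 (π k)) (by
      rw [P₂.ao, ← sa, ← P₂.ao, ac _ (ao_mem h2 hs ..), ao, fa_sp])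
    rw [← ca] at this
    calc _ = (sw F)⁻¹ * (m * ao F k * m⁻¹) * m := by group
      _ = _ := by rw [this]; group
  obtain rfl : m = sw F * SI F 7 δ := (eq_inv_mul_iff_mul_eq.1 hδ).symm
  obtain ⟨rfl, hδ'⟩ := triv (⟨![0, 1, 3, 4], by decide⟩ : Fin 4 ↪ Fin 7) h2 (by decide) (ε := act π⁻¹ ε * δ) (σ := σ) fun g hg => by
    have a := fun i => ext_C h2 (⟨![0, 1, 3, 4], by decide⟩ : Fin 4 ↪ Fin 7) (i := i) hg
    generalize K2.ext _ g = y at a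
    have b : ∀ i, (¬ ∃ l, ![0, 1, 3, 4] l = i) → sw F * y * (sw F)⁻¹ ∈ C F (π i) := fun i c => (aut_mem (conj_ao π i)).2 (a i c)
    have e := h _ (b 6 (by decide)) (b 5 (by decide))
    rw [show (sw F)⁻¹ * (sw F * y * (sw F)⁻¹) * sw F = y by group, ← e₂ _ (a 2 (by decide)) (a 6 (by decide)), ac _ (a 2 (by decide)),
      ← e₂ _ ((aut_mem (tw_ao ..)).2 (b 2 (by decide))) ((aut_mem (tw_ao ..)).2 (b 5 (by decide)))] at e
    replace e := P₂.inj _ (mul_mem (mul_mem hm (fa_mem.2 (a 2 (by decide)))) (inv_mem hm)) _ ((aut_mem (tw_ao ..)).2 (b 2 (by decide))) e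
    have e' : SI F 7 (act π⁻¹ ε) = (sw F)⁻¹ * (SI F 7 ε)⁻¹ * sw F := by
      rw [SI_inv, ← sp_eq, ← sp_eq, sw, sp_inv, sp_mul, sp_mul, act_one, act_one, one_mul, mul_one, mul_one, inv_mul_cancel]
    rw [tw1] at e
    change _ * fa σ y * _ = y
    rw [map_mul, e']
    calc _ = (sw F)⁻¹ * (SI F 7 ε)⁻¹ * (sw F * SI F 7 δ * fa σ y * (sw F * SI F 7 δ)⁻¹) * SI F 7 ε * sw F := by group
      _ = _ := by rw [e]; group
  have d1 : δ 0 = δ 1 := mul_left_cancel ((hδ' 0 1).trans (congrArg (· * δ 1) (hε 0 1)))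
  have d4 : δ 0 = δ 4 := mul_left_cancel ((hδ' 0 3).trans (congrArg (· * δ 4) (hε 3 1)))
  have d3 : δ 0 ≠ δ 3 := fun e => c ((hε 0 1).trans (mul_right_cancel ((hδ' 0 2).trans (congrArg (ε 3 * ·) e.symm))))
  have pr : ∀ {δ}, sw F * SI F 7 δ ∈ C F 2 → ∏ i, δ i = 1 := fun h =>
    ((sp_mem h2 hs).1 (((mul_mem_cancel_left s2).1 (by rwa [sp_eq])).1)).1
  obtain ⟨δ, hm, d1, d4, d3, em⟩ : ∃ δ, sw F * SI F 7 δ ∈ C F 2 ∧ δ 0 = δ 1 ∧ δ 0 = δ 4 ∧ δ 0 ≠ δ 3 ∧ φ₃ (sw F) = φ₂ (sw F * SI F 7 δ) := by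
    rcases P₂.cen u fun y hy => mul_inv_eq_iff_eq_mul.1 ((hu y hy).trans (by rw [map_one]; rfl)) with rfl | rfl
    · exact ⟨δ, hm, d1, d4, d3, by simpa using em⟩
    · refine ⟨δ * (-1 * ms 2), ?_, congrArg (· * _) d1, congrArg (· * _) d4, fun e => d3 (mul_right_cancel e), ?_⟩ <;>
        rw [map_mul, ← mul_assoc, ← sp_eq (-1 * ms 2)]
      exacts [mul_mem hm (ao_mem h2 hs 2 2), em.trans ((congrArg _ (P₂.ao 2).symm).trans (P₂.mul _ hm _ (ao_mem h2 hs 2 2)).symm)]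
  have ss : sw F * sw F = 1 := by
    rw [sw, sp_mul, act_one, mul_one, show (swap 0 1 * swap 5 6 * (swap 0 1 * swap 5 6) : Perm (Fin 7)) = 1 by decide, sp_one]
  have d5 : δ 5 = δ 6 := by
    have := P₂.inj _ (mul_mem hm hm) _ (one_mem _) (by rw [P₂.mul _ hm _ hm, ← em, ← P₃.mul _ s3 _ s3, ss, P₂.one, P₃.one])
    rw [← sp_eq, sw, sp_mul, sp_mul, ← sp_one] at this
    have := congrFun (sp_inj h2 this).1 5
    change 1 * δ 6 * (1 * δ 5) = 1 at this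
    rw [one_mul, one_mul, mul_eq_one_iff_eq_inv, Int.units_inv_eq_self] at this
    exact this.symm
  obtain ⟨c, hc, e⟩ := del_dec δ (pr hm) d1 d4 d3 d5
  obtain ⟨g, hg, g1, g2⟩ := exists_g h2 hs
  have g3 : ∀ k, k = 2 ∨ k = 3 ∨ k = 4 → g ∈ C F k := fun k h => ⟨hg, mem_centralizer_singleton_iff.2 (g2 k h)⟩
  have i1 : IsConj (al 0 * al 1) (φ₃ (sw F)) := isConj_iff.2 ⟨φ₃ g, by
    rw [← g1, ← ao_mul, P₃.cj (g3 3 (by simp)) (mul_mem (ao_mem h2 hs ..) (ao_mem h2 hs ..)), P₃.mul _ (ao_mem h2 hs ..) _ (ao_mem h2 hs ..),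
      P₃.ao, P₃.ao]⟩
  have md := SI_mem h2 hs (δ := ![δ 0, 1, 1, 1, δ 0 * δ 5, δ 5, 1]) (by
    simp [Fin.prod_univ_seven, mul_assoc, Int.units_mul_self]) 2
  have i2 : IsConj (al 0 * al 1 * (al 2 * al c)) (φ₃ (sw F)) := isConj_iff.2 ⟨φ₂ (SI F 7 ![δ 0, 1, 1, 1, δ 0 * δ 5, δ 5, 1] * g), by
    have a := ao_mem h2 hs 2
    rw [← P₂.ao, ← P₂.ao, ← P₂.ao, ← P₂.ao, ← P₂.mul _ (a _) _ (a _), ← P₂.mul _ (a _) _ (a _),
      ← P₂.mul _ (mul_mem (a _) (a _)) _ (mul_mem (a _) (a _)), ← P₂.cj (mul_mem md (g3 2 (by simp)))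
      (mul_mem (mul_mem (a _) (a _)) (mul_mem (a _) (a _))), em]
    congr 1
    have : g * (ao F 0 * ao F 1 * (ao F 2 * ao F c)) * g⁻¹ = sw F * SI F 7 (ms 2 * ms c) := by
      rw [← conj_mul, ← conj_mul (a := ao F 2), g2 2 (by simp), g2 c (.inr hc), ao_mul 0, g1, mul_inv_cancel_right, mul_inv_cancel_right,
        ao_mul]
    rw [mul_inv_rev, mul_assoc _ g, mul_assoc _ (g * _), ← mul_assoc (g * _), this, SI_inv, ← sp_eq, ← sp_eq, ← sp_eq, sw, sp_mul, sp_mul,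
      sp_mul, sp_mul, one_mul, one_mul, one_act, mul_one, mul_one, one_mul, ← act_mul, e]⟩
  rcases hc with rfl | rfl
  exacts [n1 (i1.trans i2.symm), n2 (i1.trans i2.symm)]

end R2

open K2 R2 in
theorem recog {F : Type*} [Field F] [Fintype F] (hq : Fintype.card F % 8 = 3 ∨ Fintype.card F % 8 = 5)
    {G : Type*} [Group G] [Finite G] {φ : CM F →* G} {al : Fin 7 → G} (P : Pk φ al)
    (perm : ∀ π : Perm (Fin 7), Perm.sign π = 1 → ∃ n : G, ∀ i, n * al i * n⁻¹ = al (π i))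
    (nc : ¬ IsConj (al 0 * al 1) (al 0 * al 1 * al 2 * al 3)) :
    ∃ Φ : Om F →* G, Function.Injective Φ ∧ (∀ y : CM F, Φ ⟨y, y.2.1⟩ = φ y) ∧
      centralizer {al 6} ≤ normalizer (Φ.range : Set G) := by
  classical
  obtain ⟨h2, hs⟩ := two_facts hq
  let φ' : O (Q7 F) → G := fun y => if h : y ∈ C F 6 then φ ⟨y, h⟩ else 1
  have e' : ∀ y (h : y ∈ C F 6), φ' y = φ ⟨y, h⟩ := fun y h => dif_pos h
  have pa : ∀ k h, φ ⟨ao F k, h⟩ = al k := fun k _ => (P.ao k).2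
  have L : Lc al 6 φ' := by
    refine ⟨fun y h y' h' => by rw [e' _ h, e' _ h', e' _ (mul_mem h h'), ← map_mul]; rfl, fun y h y' h' e => congrArg Subtype.val
      (P.inj ((e' _ h).symm.trans (e.trans (e' _ h')))), fun k => (e' _ (ao_mem h2 hs ..)).trans (pa ..), fun x hx => ?_, fun x hx => ?_⟩
    · obtain ⟨m, σ, h⟩ := P.act x (mem_centralizer_singleton_iff.2 hx)
      refine ⟨m, m.2, σ, (φ m)⁻¹ * x, by rw [e' _ m.2, mul_inv_cancel_left], fun y hy => ?_⟩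
      have := h ⟨y, hy⟩ ⟨_, (fa_mem (σ := σ)).2 hy⟩ (FA_iff.2 rfl)
      rw [map_mul, map_mul, map_inv] at this
      rw [e' _ hy, e' _ (fa_mem.2 hy), mul_assoc _ x, mul_inv_rev, ← mul_assoc, mul_assoc _ _ x⁻¹, this]; group
    · refine P.cen x (mem_centralizer_singleton_iff.2 ?_) fun y => by simpa only [e' _ y.2] using hx y y.2
      simpa only [(e' _ (ao_mem h2 hs ..)).trans (pa 6 _)] using hx _ (ao_mem h2 hs 6 6)
  obtain ⟨n₂, hn₂⟩ := perm (swap 2 6 * swap 0 1) (by simp [Perm.sign_swap'])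
  obtain ⟨n₃, hn₃⟩ := perm (swap 3 6 * swap 0 1) (by simp [Perm.sign_swap'])
  obtain ⟨n₄, hn₄⟩ := perm (swap 3 4 * swap 5 6) (by simp [Perm.sign_swap'])
  obtain ⟨φ₂, P₂, e₂, -⟩ := exists_loc h2 hs L _ n₂ hn₂ ⟨![0, 1, 3, 4, 5], by decide⟩ (by decide) (by decide)
  obtain ⟨φ₃, P₃, e₃, r₃⟩ := exists_loc h2 hs L _ n₃ hn₃ ⟨![0, 1, 2, 4, 5], by decide⟩ (by decide) (by decide)
  change Lc al 3 φ₃ at P₃
  rw [mul_assoc _ (al 2)] at nc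
  have k := key h2 hs L P₂ P₃ e₂ e₃ nc fun h => nc (h.trans (isConj_iff.2 ⟨n₄, by
    rw [← conj_mul, ← conj_mul, ← conj_mul, hn₄, hn₄, hn₄, hn₄]; rfl⟩))
  have s3 := sw_mem h2 hs (i := 3) (by decide)
  have r3' : r3 F ∈ C F 3 := ⟨(sp_mem h2 hs).2 ⟨by simp, by simp [Perm.sign_swap']⟩, mem_centralizer_singleton_iff.2
    (mul_inv_eq_iff_eq_mul.1 (conj_ao _ 3))⟩
  obtain ⟨Φ, f1, f2, f3⟩ := univ7 hq φ (φ₃ (sw F)) (by
    rw [← P₃.mul _ s3 _ s3, sw, sp_mul, act_one, mul_one, show (swap 0 1 * swap 5 6 * (swap 0 1 * swap 5 6) : Perm (Fin 7)) = 1 by decide,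
      sp_one, P₃.one]) (fun y y' e => by
      have : y'.1 ∈ C F 5 := by
        rw [e]; exact (aut_mem (i := 6) (j := 5) (τ := MulAut.conj (sw F)) (conj_ao (swap 0 1 * swap 5 6) 6)).2 y.2
      rw [← e' _ y.2, ← e' _ y'.2, ← k y' this y'.2, e, show (sw F)⁻¹ * (sw F * y * (sw F)⁻¹) * sw F = y by group]) fun y e => by
      have : y.1 ∈ C F 3 := (mul_mem_cancel_left s3).1 (by rw [e]; exact r3')
      rw [← e' _ y.2, ← e₃ _ this y.2, ← P₃.mul _ s3 _ this, e, pow_three, ← P₃.mul _ r3' _ r3', ← P₃.mul _ r3' _ (mul_mem r3' r3'), r3,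
        sp_mul, sp_mul, act_one, mul_one, act_one, mul_one, ← P₃.one, ← sp_one]
      exact congrArg (fun π => φ₃ (sp F 1 π)) (by decide)
  have fa' : ∀ k h, Φ ⟨ao F k, h⟩ = al k := fun k _ => (f1 ⟨_, ao_mem h2 hs 6 k⟩).trans (pa ..)
  have rφ : ∀ y ∈ C F 6, φ' y ∈ Φ.range := fun y h => ⟨_, (f1 ⟨y, h⟩).trans (e' _ h).symm⟩
  refine ⟨Φ, (MonoidHom.ker_eq_bot_iff _).1 ?_, f1, fun x hx => ?_⟩
  · rcases normal_omega_le_center_or (nd7 h2) (by simp) Φ.ker with h | h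
    · refine eq_bot_iff.2 fun y hy => Subtype.ext (((mem_center_commutator_iff (nd7 h2) (not_exc_of_two_ne_zero h2) (by simp)).1
        (h hy)).resolve_right fun e => ?_)
      have := ((neg_mem_commutator_iff (nd7 h2) h2).1 (e ▸ y.2)).1
      simp at this
      exact absurd this (by decide)
    · have := L.inj _ (ao_mem h2 hs 6 6) _ (one_mem _) (by
        rw [L.ao, L.one, ← fa' 6 (ao_mem h2 hs 6 6).1]; exact h.ge (mem_top _))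
      rw [← sp_one] at this
      exact absurd (sp_inj h2 this).1 (by decide)
  have nm : ∀ x, x * al 6 = al 6 * x → ∀ y ∈ C F 6, x * φ' y * x⁻¹ ∈ Φ.range := fun x hx y hy => by
    obtain ⟨m, hm, σ, u, rfl, hu⟩ := L.dec x hx
    rw [mul_inv_rev, mul_assoc _ u, mul_assoc, ← mul_assoc (u * _), hu y hy]
    exact mul_mem (rφ _ hm) (mul_mem (rφ _ (fa_mem.2 hy)) (inv_mem (rφ _ hm)))
  have mp : sp F 1 (swap 3 6 * swap 0 1) ∈ Om F := (sp_mem h2 hs).2 ⟨by simp, by simp [Perm.sign_swap']⟩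
  have r3r : ∀ y ∈ C F 3, φ₃ y ∈ Φ.range := fun y hy => by
    obtain ⟨y', hy', e⟩ := r₃ y hy
    have a : Φ ⟨_, mp⟩ * al 6 * (Φ ⟨_, mp⟩)⁻¹ = n₃ * al 6 * n₃⁻¹ := by
      rw [hn₃, ← fa' 6 (ao_mem h2 hs 6 6).1, ← map_inv, ← map_mul, ← map_mul, ← fa' _ (ao_mem h2 hs 6 _).1]
      exact congrArg Φ (Subtype.ext (conj_ao ..))
    have := nm ((Φ ⟨_, mp⟩)⁻¹ * n₃) (by
      calc _ = (Φ ⟨_, mp⟩)⁻¹ * (n₃ * al 6 * n₃⁻¹) * n₃ := by group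
        _ = _ := by rw [← a]; group) y' hy'
    rw [e, show n₃ * φ' y' * n₃⁻¹ = Φ ⟨_, mp⟩ * ((Φ ⟨_, mp⟩)⁻¹ * n₃ * φ' y' * ((Φ ⟨_, mp⟩)⁻¹ * n₃)⁻¹) * (Φ ⟨_, mp⟩)⁻¹ by group]
    exact mul_mem (mul_mem ⟨_, rfl⟩ this) (inv_mem ⟨_, rfl⟩)
  obtain ⟨m, hm, σ, u, rfl, hu⟩ := L.dec x (mem_centralizer_singleton_iff.1 hx)
  refine mul_mem (le_normalizer (rφ m hm)) (mem_normalizer_fintype fun y hy => ?_)
  have ua : ∀ k, u * al k = al k * u := fun k => mul_inv_eq_iff_eq_mul.1 (by rw [← L.ao, hu _ (ao_mem h2 hs ..), ao, fa_sp])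
  refine (show Φ.range ≤ Φ.range.comap (MulAut.conj u).toMonoidHom from f3.le.trans (sup_le ?_ (zpowers_le.2 ?_))) hy
  · rintro _ ⟨y, rfl⟩
    exact e' _ y.2 ▸ nm u (ua 6) y y.2
  · obtain ⟨m, hm, σ, v, rfl, hv⟩ := P₃.dec u (ua 3)
    change φ₃ m * v * φ₃ (sw F) * (φ₃ m * v)⁻¹ ∈ Φ.range
    rw [mul_inv_rev, mul_assoc _ v, mul_assoc, ← mul_assoc (v * _), hv _ s3]
    exact mul_mem (r3r _ hm) (mul_mem (r3r _ (fa_mem.2 s3)) (inv_mem (r3r _ hm)))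

end Cfsg.Lib.A12S
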