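import Cfsg.Agent.Lib.G2S.Au

/-!
# S3101: the Sylow `2`-subgroup `X = E : D` of `A₁₂` (order `512`).  See `docs/A12.md`.

`E` = even subsets of `{0, …, 6}` (a 6 bit mask, the bit of `6` is implied), `D = ⟨a, b, σ⟩ ≅ D₈` permutes the coordinates,
`a = (01)(23)`, `b = (01)(45)`, `σ = (02)(13)`.  `mk (e + 64 (i + 2 j + 4 k)) = e · a^i b^j σ^k`.
Statements `∀ x : X, …`, `∀ x ∈ P, …`, `∃ x …` are proved by `decide +kernel` (a double loop costs a few seconds).
-/

set_option autoImplicit false
set_option exponentiation.threshold 600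

namespace Cfsg.Lib.A12S

open Subgroup Equiv Cfsg.Lib.BG Cfsg.Lib.G2S

/-- the model -/
@[ext] structure X where
  e : Fin 64
  d : Fin 8

def actF (d : Fin 8) (e : Fin 64) : Fin 64 := Fin.ofNat 64 (0xff7ef3fb6eb2f75e71f34e307d76d3796692755651714610be7ae3ba6aa2b65a61b24a203c72c3386282345241304200ffbdf3f79d71fbadb2f38d307db5d375955179a592718510beb9e3b69961baa9a2b289203cb1c334914138a182308100ff7ef3f75e71fb6eb2f34e30be7ae3b65a61ba6aa2b24a207d76d37556517966927146103c72c3345241386282304200ffbdf3fbadb2f79d71f38d30beb9e3baa9a2b69961b289207db5d379a5927595517185103cb1c338a182349141308100ffef7cdf6d74efae78cf2c707de75c5d65546da6584d2450beeb6c9e6964aeaa688e28603ce34c1c61442ca2480c2040ffdfbcef9eb8df5db4cf1cb07dd79c6d96985d55944d1490bedbacae9aa89e59a48e18a03cd38c2c92881c51840c1080ffdfbcdf5db4ef9eb8cf1cb0bedbac9e59a4ae9aa88e18a07dd79c5d55946d96984d14903cd38c1c51842c92880c1080ffef7cefae78df6d74cf2c70beeb6caeaa689e69648e28607de75c6da6585d65544d24503ce34c2ca2481c61440c2040 >>> (6 * (64 * d.1 + e.1)))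
def dmF (d d' : Fin 8) : Fin 8 := Fin.ofNat 8 (0x213b3705a97e681fa54c8dec977053b3e21ade54c1fac688 >>> (3 * (8 * d.1 + d'.1)))
def diF (d : Fin 8) : Fin 8 := Fin.ofNat 8 (0xdec688 >>> (3 * d.1))
def xr (e e' : Fin 64) : Fin 64 := Fin.ofNat 64 (e.1 ^^^ e'.1)

/-- `∀ k < n, f k` -/
def allLt (f : ℕ → Bool) : ℕ → Bool
  | 0 => true
  | n + 1 => f n && allLt f n

theorem allLt_iff {f : ℕ → Bool} {n : ℕ} : allLt f n = true ↔ ∀ k < n, f k = true := by
  induction n with
  | zero => simp [allLt]
  | succ n ih => rw [allLt, Bool.and_eq_true, ih, Nat.forall_lt_succ_right, and_comm]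

/-- a fast instance for `∀` over `Fin n` -/
@[instance_reducible] def finAll (n : ℕ) [NeZero n] (p : Fin n → Prop) [DecidablePred p] : Decidable (∀ x, p x) :=
  decidable_of_iff (allLt (fun k => decide (p (Fin.ofNat n k))) n = true) (by
    rw [allLt_iff]
    refine ⟨fun h x => ?_, fun h k _ => decide_eq_true (h _)⟩
    simpa using h x.1 x.2)

section
attribute [local instance 2000] finAll
theorem act_xr : ∀ d e e', actF d (xr e e') = xr (actF d e) (actF d e') := by decide +kernel
theorem act_dm : ∀ d d' e, actF (dmF d d') e = actF d (actF d' e) := by decide +kernel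
theorem dm_assoc : ∀ d d' d'', dmF (dmF d d') d'' = dmF d (dmF d' d'') := by decide +kernel
theorem act_one : ∀ e, actF 0 e = e ∧ xr 0 e = e ∧ xr e e = 0 := by decide +kernel
theorem dm_one : ∀ d, dmF 0 d = d ∧ dmF (diF d) d = 0 := by decide +kernel
end
theorem xr_val (e e' : Fin 64) : (xr e e').1 = e.1 ^^^ e'.1 := Nat.mod_eq_of_lt (Nat.xor_lt_two_pow (n := 6) e.2 e'.2)
theorem xr_assoc (e e' e'' : Fin 64) : xr (xr e e') e'' = xr e (xr e' e'') :=
  Fin.ext (by simp only [xr_val, Nat.xor_assoc])

instance instGroupX : Group X :=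
  letI : Mul X := ⟨fun x y => ⟨xr x.e (actF x.d y.e), dmF x.d y.d⟩⟩
  letI : One X := ⟨⟨0, 0⟩⟩
  letI : Inv X := ⟨fun x => ⟨actF (diF x.d) x.e, diF x.d⟩⟩
  Group.ofLeftAxioms
    (fun x y z => X.ext (show xr (xr _ _) (actF (dmF _ _) _) = xr _ (actF _ (xr _ _)) by rw [act_xr, act_dm, xr_assoc])
      (dm_assoc _ _ _))
    (fun x => X.ext (show xr 0 (actF 0 _) = _ by rw [(act_one _).1, (act_one _).2.1]) (dm_one _).1)
    (fun x => X.ext (act_one _).2.2 (dm_one _).2)

/-- the element with number `n` -/
def mk (n : ℕ) : X := ⟨Fin.ofNat 64 n, Fin.ofNat 8 (n / 64)⟩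
/-- the number of an element -/
def X.val (x : X) : ℕ := x.e.1 + 64 * x.d.1
theorem mk_val (x : X) : mk x.val = x := by
  have := x.e.2; have := x.d.2
  ext <;> simp only [mk, X.val, Fin.ofNat] <;> omega
theorem val_lt (x : X) : x.val < 512 := by have := x.e.2; have := x.d.2; unfold X.val; omega

instance instDecEqX : DecidableEq X := fun x y =>
  decidable_of_iff (x.val = y.val) ⟨fun h => by rw [← mk_val x, h, mk_val], fun h => h ▸ rfl⟩
instance (priority := 2000) decAll (p : X → Prop) [DecidablePred p] : Decidable (∀ x, p x) :=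
  decidable_of_iff (allLt (fun k => decide (p (mk k))) 512 = true) (by
    rw [allLt_iff]
    exact ⟨fun h x => mk_val x ▸ of_decide_eq_true (h _ (val_lt x)), fun h k _ => decide_eq_true (h _)⟩)
instance (priority := 2000) decEx (p : X → Prop) [DecidablePred p] : Decidable (∃ x, p x) :=
  decidable_of_iff (¬ ∀ x, ¬ p x) (by simp)

/-- coordinates -/
def eqv : X ≃ Fin 64 × Fin 8 := ⟨fun x => (x.e, x.d), fun p => ⟨p.1, p.2⟩, fun _ => rfl, fun _ => rfl⟩
instance instFiniteX : Finite X := Finite.of_equiv _ eqv.symm
theorem card_X : Nat.card X = 2 ^ 9 := by rw [Nat.card_congr eqv]; simp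
theorem pg : IsPGroup 2 X := IsPGroup.of_card card_X

/-! ### Closure computations -/

/-- evaluate `m` first -/
def force (m : ℕ) (f : ℕ → ℕ) : ℕ := Nat.casesOn m (f 0) fun k => f (k + 1)
theorem force_eq (m : ℕ) (f : ℕ → ℕ) : force m f = f m := by cases m <;> rfl

/-- add the products `x * g` with `x` in the mask `m` -/
def pass (g : X) (m : ℕ) : ℕ → ℕ → ℕ
  | 0, c => c
  | n + 1, c => force (bif m.testBit n then c ||| 1 <<< (mk n * g).val else c) (pass g m n)

/-- the mask of all products `g₁^{ε₁} ⋯ g_k^{ε_k}`; repeat the list to get more products -/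
def cl (L : List X) : ℕ := L.foldl (fun m g => force m fun m => pass g m 512 m) 1

theorem pass_mem {p : X → Prop} {g : X} {m : ℕ} (h : ∀ k, m.testBit k → p (mk k * g)) (n c : ℕ)
    (hc : ∀ x, c.testBit x.val → p x) : ∀ x, (pass g m n c).testBit x.val → p x := by
  induction n generalizing c with
  | zero => exact hc
  | succ n ih =>
    rw [pass, force_eq]
    refine ih _ fun x hx => ?_
    cases e : m.testBit n <;> rw [e] at hx
    · exact hc x hx
    · rw [cond_true, Nat.testBit_or, Bool.or_eq_true, Nat.one_shiftLeft, Nat.testBit_two_pow] at hx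
      refine hx.elim (hc x) fun k => ?_
      rw [← mk_val x, ← of_decide_eq_true k, mk_val]
      exact h n e

theorem pass_lt {g : X} {m : ℕ} (n c : ℕ) (hc : c < 2 ^ 512) : pass g m n c < 2 ^ 512 := by
  induction n generalizing c with
  | zero => exact hc
  | succ n ih =>
    rw [pass, force_eq]
    refine ih _ ?_
    cases m.testBit n
    · exact hc
    · exact Nat.or_lt_two_pow hc (by rw [Nat.one_shiftLeft]; exact Nat.pow_lt_pow_right (by norm_num) (val_lt _))

theorem val_mk {k : ℕ} (h : k < 512) : (mk k).val = k := by simp only [mk, X.val, Fin.ofNat]; omega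

/-- Induction along a computed closure. -/
theorem cl_ind {p : X → Prop} (L : List X) (h1 : p 1) (h : ∀ g ∈ L, ∀ x, p x → p (x * g)) {x : X}
    (hx : (cl L).testBit x.val) : p x := by
  have : ∀ m, (m < 2 ^ 512 ∧ ∀ x, m.testBit x.val → p x) →
      ∀ x, (L.foldl (fun m g => force m fun m => pass g m 512 m) m).testBit x.val → p x := by
    clear hx
    induction L with
    | nil => exact fun _ h => h.2
    | cons g L ih =>
      refine fun m hm => ih (fun g hg => h g (List.mem_cons_of_mem _ hg)) _ ?_
      beta_reduce
      rw [force_eq]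
      refine ⟨pass_lt _ _ hm.1, pass_mem (fun k hk => h g List.mem_cons_self _ (hm.2 _ ?_)) _ _ hm.2⟩
      rwa [val_mk (by_contra fun c => by
        rw [Nat.testBit_lt_two_pow (hm.1.trans_le (Nat.pow_le_pow_right (by norm_num) (not_lt.1 c)))] at hk; cases hk)]
  refine this 1 ⟨by norm_num, fun x hx => ?_⟩ x hx
  rw [← mk_val x, Nat.testBit_one_eq_true_iff_self_eq_zero.1 hx]
  exact h1

/-- `P ≤ H` as soon as `H` contains a list `L` whose computed closure covers `P`. -/
theorem le_of_cl {P H : Subgroup X} (L : List X) (h : ∀ x ∈ P, (cl L).testBit x.val) (hL : ∀ g ∈ L, g ∈ H) : P ≤ H :=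
  fun x hx => cl_ind L H.one_mem (fun g hg _ c => mul_mem c (hL g hg)) (h x hx)

/-- The subgroup with mask `m`, generated by `L`. -/
def sg (m : ℕ) (L : List ℕ) (h : cl (L.map mk) = m ∧ m.testBit 0 ∧
    ∀ x : X, m.testBit x.val → ∀ g ∈ L, m.testBit (x * mk g).val) : Subgroup X where
  carrier := {x | m.testBit x.val}
  one_mem' := h.2.1
  mul_mem' := fun {x y} hx hy => cl_ind (p := fun y => m.testBit (x * y).val) (L.map mk) (by simpa using hx)
    (fun g hg y c => by
      obtain ⟨g, k, rfl⟩ := List.mem_map.1 hg
      rw [← mul_assoc]; exact h.2.2 _ c g k) (h.1 ▸ hy)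
  inv_mem' := fun {x} hx => by
    have : ∀ k, m.testBit (x ^ k).val := fun k => by
      induction k with
      | zero => exact h.2.1
      | succ k ih =>
        rw [pow_succ]
        exact cl_ind (p := fun y => m.testBit (x ^ k * y).val) (L.map mk) (by simpa using ih) (fun g hg y c => by
          obtain ⟨g, k, rfl⟩ := List.mem_map.1 hg
          rw [← mul_assoc]; exact h.2.2 _ c g k) (h.1 ▸ hx)
    have e := this (orderOf x - 1)
    rwa [eq_inv_of_mul_eq_one_left (show x ^ (orderOf x - 1) * x = 1 by
      rw [← pow_succ, Nat.sub_add_cancel (orderOf_pos x), pow_orderOf_eq_one])] at e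

/-- membership in `sg` -/
@[instance_reducible] def sgDec (m : ℕ) (L : List ℕ) (h : _) : DecidablePred (· ∈ sg m L h) := fun x =>
  inferInstanceAs (Decidable (m.testBit x.val = true))

/-- A map that is multiplicative on generators. -/
def homOf {G : Type*} [Group G] (f : X → G) (L : List X) (hL : ∀ x : X, (cl L).testBit x.val) (h1 : f 1 = 1)
    (h : ∀ g ∈ L, ∀ x, f (x * g) = f x * f g) : X →* G :=
  MonoidHom.mk' f fun x y => cl_ind (p := fun y => f (x * y) = f x * f y) L (by simp [h1])
    (fun g hg y c => by rw [← mul_assoc, h g hg, c, h g hg, mul_assoc]) (hL y)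

/-! ### Names -/

/-- `al i` is the complement of `{i}` -/
def al (i : Fin 7) : X := mk ((63 ^^^ 1 <<< i.1) % 64)
def α : X := mk 63
def β : X := mk 15
def γ : X := mk 48
def z1 : X := mk 3
def z2 : X := mk 12
def x1 : X := mk 1
def x2 : X := mk 4
def x3 : X := mk 16
def a : X := mk 64
def b : X := mk 128
def σ : X := mk 256
/-- the size of an even subset (for `x ∈ E`) -/
def wt (x : X) : ℕ := (0xdb4d24d24922d24922922892d24922922892922892892490 >>> (3 * x.e.1)) % 8
/-- the number of nontrivial components in `E = V1 × V2 × V3` (for `x ∈ E`) -/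
def nu (x : X) : ℕ := (if x.e.1 % 4 = 0 then 0 else 1) + (if x.e.1 / 4 % 4 = 0 then 0 else 1) + (if x.e.1 / 16 = 0 then 0 else 1)
/-- the automorphism of `Pa` induced by the permutation `(024)(135)` of the coordinates -/
def fa (x : X) : X := mk ((0x5faed6eb357aad4ea34fa6d2e9347a2d0e835f2e96cb2572a94ca24f2692c92472290c825eae56ab156aa54aa14ea652a9146a250a815e2e168b0562a148a04e26128904622108803f9ecee73379acce632f96cae532792c8e433f1e8ec72371a8cc622f168ac52271288c423e9e4ea71369a4ca612e964aa51269248a413e1e0e870361a0c8602e160a8502612088407fbedeef377badcee36fb6daed367b2d8ec37f3e9ecf2773a9cce26f369acd2673298cc27ebe5eaf176ba5cae16eb65aad166b258ac17e3e1e8f0763a1c8e06e361a8d06632188c01f8ec6e33178ac4e230f86c2e130782c0e031f0e86c32170a84c220f0682c12070280c021e8e46a31168a44a210e8642a11068240a011e0e06830160a048200e0602810060200800 >>> (9 * x.val)) % 512)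
/-- the automorphism of order three of `R`: `z1 ↦ z1 a ↦ a`, `x1 x2 ↦ x1 x2 σ ↦ σ`, `b ↦ z1 b`, trivial on `W` -/
def fb (x : X) : X := mk ((0x5c80000f5007cf6000006fff8007d00000b65480000e50078f4000006bfd8007500000a64c80000d50074f20000067fb8006d00000964480000c50070f00000063f98006500000865d00000f6007ff7800006cfe0007c80000b55500000e6007bf58000068fc0007480000a54d00000d60077f38000064fa0006c80000954500000c60073f18000060f80006480000851c8000075004cee000005fe78003d00000361480000650048ec000005be58003500000260c80000550044ea0000057e38002d00000160480000450040e80000053e18002500000061d0000076004fef800005ce60003c8000035150000066004bed8000058e40003480000250d00000560047eb8000054e20002c80000150500000460043e98000050e00002480000055f80000fc007eb6c00006e7ea007980000b05780000ec007ab4c00006a7ca007180000a04f80000dc0076b2c0000667aa006980000904780000cc0072b0c00006278a006180000805e00000ff007db7400006d7f2007800000b35600000ef0079b540000697d2007000000a34e00000df0075b340000657b2006800000934600000cf0071b14000061792006000000831e000007f004daf400005d6720038000003316000006f0049ad4000059652003000000230e000005f0045ab40000556320028000001306000004f0041a94000051612002000000031f800007c004eaec00005e66a0039800003017800006c004aacc00005a64a003180000200f800005c0046aac00005662a0029800001007800004c0042a8c00005260a00218000000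 >>> (9 * x.val)) % 512)

/-- even subsets of `{0..6}` -/
def E : Subgroup X := sg 0xffffffffffffffff [1, 2, 4, 8, 16, 32] (by decide +kernel)
instance decE : DecidablePred (· ∈ E) := sgDec _ _ _
/-- `E⁺`: elements of `E` not containing `6` -/
def Ep : Subgroup X := sg 0x9669699669969669 [3, 5, 9, 17, 33] (by decide +kernel)
instance decEp : DecidablePred (· ∈ Ep) := sgDec _ _ _
/-- `⟨z1, z2, γ⟩ = A ⊓ E` -/
def B : Subgroup X := sg 0x9009000000009009 [3, 12, 48] (by decide +kernel)
instance decB : DecidablePred (· ∈ B) := sgDec _ _ _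
/-- `B⁺ = {1, β, z1 γ, z2 γ}` -/
def Bp : Subgroup X := sg 0x1008000000008001 [15, 51] (by decide +kernel)
instance decBp : DecidablePred (· ∈ Bp) := sgDec _ _ _
/-- `B ⟨a, b⟩ ≅ 2⁵` -/
def A : Subgroup X := sg 0x9009000000009009900900000000900990090000000090099009000000009009 [3, 12, 48, 64, 128] (by decide +kernel)
instance decA : DecidablePred (· ∈ A) := sgDec _ _ _
/-- `⟨β, γ, x3⟩ = Z(U)` -/
def W : Subgroup X := sg 0x8001800180018001 [15, 16, 32] (by decide +kernel)
instance decW : DecidablePred (· ∈ W) := sgDec _ _ _
/-- `⟨z1, x1⟩` -/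
def V1 : Subgroup X := sg 0xf [1, 2] (by decide +kernel)
instance decV1 : DecidablePred (· ∈ V1) := sgDec _ _ _
/-- `⟨z2, x2⟩` -/
def V2 : Subgroup X := sg 0x1111 [4, 8] (by decide +kernel)
instance decV2 : DecidablePred (· ∈ V2) := sgDec _ _ _
/-- `⟨γ, x3⟩` -/
def V3 : Subgroup X := sg 0x1000100010001 [16, 32] (by decide +kernel)
instance decV3 : DecidablePred (· ∈ V3) := sgDec _ _ _
/-- `V1 V2` -/
def V12 : Subgroup X := sg 0xffff [1, 2, 4, 8] (by decide +kernel)
instance decV12 : DecidablePred (· ∈ V12) := sgDec _ _ _
/-- `⟨al 0, al 1, al 2, al 3⟩` -/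
def K4 : Subgroup X := sg 0x6996000000009669 [3, 5, 9, 49] (by decide +kernel)
instance decK4 : DecidablePred (· ∈ K4) := sgDec _ _ _
/-- the Hamming code `{0123, 0145, 2345, 0246, 0356, 1256, 1346}` -/
def Hm : Subgroup X := sg 0x1008024004208001 [15, 21, 38] (by decide +kernel)
instance decHm : DecidablePred (· ∈ Hm) := sgDec _ _ _
/-- even subsets of `{0,1,2,3}` -/
def E1 : Subgroup X := sg 0x9669 [3, 5, 9] (by decide +kernel)
instance decE1 : DecidablePred (· ∈ E1) := sgDec _ _ _
/-- `E1 ⟨a, σ⟩ ≅ 2^{1+4}_+` -/
def Q : Subgroup X := sg 0x966900000000000096690000000000000000000000000000000000000000000096690000000000009669 [3, 5, 9, 64, 256] (by decide +kernel)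
instance decQ : DecidablePred (· ∈ Q) := sgDec _ _ _
/-- quaternion -/
def Q1 : Subgroup X := sg 0x100800000000000002400000000000000000000000000000000000000000000004200000000000008001 [15, 69, 262] (by decide +kernel)
instance decQ1 : DecidablePred (· ∈ Q1) := sgDec _ _ _
/-- quaternion, `Q = Q1 ∘ Q2` -/
def Q2 : Subgroup X := sg 0x42000000000000010080000000000000000000000000000000000000000000002400000000000008001 [15, 70, 259] (by decide +kernel)
instance decQ2 : DecidablePred (· ∈ Q2) := sgDec _ _ _
/-- `Q × V3` -/
def U : Subgroup X := sg 0x966996699669966996699669966996690000000000000000000000000000000096699669966996699669966996699669 [3, 5, 9, 16, 32, 64, 256] (by decide +kernel)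
instance decU : DecidablePred (· ∈ U) := sgDec _ _ _
/-- `U ⟨x1 b⟩`, the normalizer of `Q1` -/
def Ux : Subgroup X := sg 0x69966996699669966996699669966996966996699669966996699669966996696996699669966996699669966996699696699669966996699669966996699669 [3, 5, 9, 16, 32, 64, 129, 256] (by decide +kernel)
instance decUx : DecidablePred (· ∈ Ux) := sgDec _ _ _
/-- `U ⟨b⟩` -/
def R : Subgroup X := sg 0x96699669966996699669966996699669966996699669966996699669966996699669966996699669966996699669966996699669966996699669966996699669 [3, 5, 9, 16, 32, 64, 128, 256] (by decide +kernel)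
instance decR : DecidablePred (· ∈ R) := sgDec _ _ _
/-- `E ⟨a, b⟩` -/
def Pa : Subgroup X := sg 0xffffffffffffffffffffffffffffffffffffffffffffffffffffffffffffffff [1, 2, 4, 8, 16, 32, 64, 128] (by decide +kernel)
instance decPa : DecidablePred (· ∈ Pa) := sgDec _ _ _
/-- `E ⟨a, σ⟩` -/
def Pc : Subgroup X := sg 0xffffffffffffffffffffffffffffffff00000000000000000000000000000000ffffffffffffffffffffffffffffffff [1, 2, 4, 8, 16, 32, 64, 256] (by decide +kernel)
instance decPc : DecidablePred (· ∈ Pc) := sgDec _ _ _
/-- `E⁺ D` -/
def T : Subgroup X := sg 0x96696996699696699669699669969669966969966996966996696996699696699669699669969669966969966996966996696996699696699669699669969669 [3, 5, 9, 17, 33, 64, 128, 256] (by decide +kernel)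
instance decT : DecidablePred (· ∈ T) := sgDec _ _ _
/-- the centre `{1, α, β, γ}` -/
def Z : Subgroup X := sg 0x8001000000008001 [15, 48] (by decide +kernel)
instance decZ : DecidablePred (· ∈ Z) := sgDec _ _ _

/-- a polycyclic generating sequence of `X` -/
def pcs : List X := [1, 2, 4, 8, 16, 32, 64, 128, 256].map mk
theorem cl_pcs : ∀ x : X, (cl pcs).testBit x.val := by decide +kernel
/-- generators of `X` -/
def gens : List X := [x1, x3, b, σ]
theorem gens_ind {H : Subgroup X} (h : ∀ g ∈ gens, g ∈ H) : H = ⊤ :=
  top_le_iff.1 (le_of_cl (gens ++ gens ++ gens ++ gens ++ gens) (fun x _ => (by decide +kernel : ∀ x : X,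
    (cl (gens ++ gens ++ gens ++ gens ++ gens)).testBit x.val) x) fun g hg => h g (by simpa only [List.mem_append, or_self] using hg))
theorem normal_of {P : Subgroup X} (h : ∀ g ∈ gens, ∀ x ∈ P, g * x * g⁻¹ ∈ P) : P.Normal :=
  normalizer_eq_top_iff.1 (gens_ind fun g hg => mem_normalizer_fintype (h g hg))

instance nmlE : E.Normal := normal_of (by decide +kernel)
instance nmlEp : Ep.Normal := normal_of (by decide +kernel)
instance nmlB : B.Normal := normal_of (by decide +kernel)
instance nmlBp : Bp.Normal := normal_of (by decide +kernel)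
instance nmlA : A.Normal := normal_of (by decide +kernel)
instance nmlW : W.Normal := normal_of (by decide +kernel)
instance nmlV3 : V3.Normal := normal_of (by decide +kernel)
instance nmlV12 : V12.Normal := normal_of (by decide +kernel)
instance nmlK4 : K4.Normal := normal_of (by decide +kernel)
instance nmlHm : Hm.Normal := normal_of (by decide +kernel)
instance nmlE1 : E1.Normal := normal_of (by decide +kernel)
instance nmlQ : Q.Normal := normal_of (by decide +kernel)
instance nmlU : U.Normal := normal_of (by decide +kernel)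
instance nmlUx : Ux.Normal := normal_of (by decide +kernel)
instance nmlR : R.Normal := normal_of (by decide +kernel)
instance nmlPa : Pa.Normal := normal_of (by decide +kernel)
instance nmlPc : Pc.Normal := normal_of (by decide +kernel)
instance nmlT : T.Normal := normal_of (by decide +kernel)
instance nmlZ : Z.Normal := normal_of (by decide +kernel)

/-! ### The embedding into `A₁₂` -/

def t12 (x : X) (i : Fin 12) : Fin 12 := Fin.ofNat 12 ((0xab9823016754ab9801236754ab9810326754ab9832106754ab9823014576ab9801234576ab9810324576ab9832104576ab9823015467ab9801235467ab9810325467ab9832105467ab9823017645ab9801237645ab9810327645ab983210764589ba2301675489ba0123675489ba1032675489ba3210675489ba2301457689ba0123457689ba1032457689ba3210457689ba2301546789ba0123546789ba1032546789ba3210546789ba2301764589ba0123764589ba1032764589ba3210764598ab2301675498ab0123675498ab1032675498ab3210675498ab2301457698ab0123457698ab1032457698ab3210457698ab2301546798ab0123546798ab1032546798ab3210546798ab2301764598ab0123764598ab1032764598ab32107645ba8923016754ba8901236754ba8910326754b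a8932106754ba8923014576ba8901234576ba8910324576ba8932104576ba8923015467ba8901235467ba8910325467ba8932105467ba8923017645ba8901237645ba8910327645ba8932107645ab9823106745ab9801326745ab9810236745ab9832016745ab9823104567ab9801324567ab9810234567ab9832014567ab9823105476ab9801325476ab9810235476ab9832015476ab9823107654ab9801327654ab9810237654ab983201765489ba2310674589ba0132674589ba1023674589ba3201674589ba2310456789ba0132456789ba1023456789ba3201456789ba2310547689ba0132547689ba1023547689ba3201547689ba2310765489ba0132765489ba1023765489ba3201765498ab2310674598ab0132674598ab1023674598ab3201674598ab2310456798ab0132456798ab1023456798ab3201456798ab2310547698ab0132547698ab1023547698ab3201547698ab2310765498ab0132765498ab1023765498ab32017654ba8923106745ba8901326745ba8910236745ba8932016745ba8923104567ba8901324567ba8910234567ba8932014567ba8923105476ba8901325476ba8910235476ba8932015476ba8923107654ba8901327654ba8910237654ba8932017654ab8923106754ab8901326754ab8910236754ab8932016754ab8923104576ab8901324576ab8910234576ab8932014576ab8923105467ab8901325467ab8910235467ab8932015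467ab8923107645ab8901327645ab8910237645ab893201764589ab2310675489ab0132675489ab1023675489ab3201675489ab2310457689ab0132457689ab1023457689ab3201457689ab2310546789ab0132546789ab1023546789ab3201546789ab2310764589ab0132764589ab1023764589ab3201764598ba2310675498ba0132675498ba1023675498ba3201675498ba2310457698ba0132457698ba1023457698ba3201457698ba2310546798ba0132546798ba1023546798ba3201546798ba2310764598ba0132764598ba1023764598ba32017645ba9823106754ba9801326754ba9810236754ba9832016754ba9823104576ba9801324576ba9810234576ba9832014576ba9823105467ba9801325467ba9810235467ba9832015467ba9823107645ba9801327645ba9810237645ba9832017645ab8923016745ab8901236745ab8910326745ab8932106745ab8923014567ab8901234567ab8910324567ab8932104567ab8923015476ab8901235476ab8910325476ab8932105476ab8923017654ab8901237654ab8910327654ab893210765489ab2301674589ab0123674589ab1032674589ab3210674589ab2301456789ab0123456789ab1032456789ab3210456789ab2301547689ab0123547689ab1032547689ab3210547689ab2301765489ab0123765489ab1032765489ab3210765498ba2301674598ba0123674598ba1032674598ba3210674598ba2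301456798ba0123456798ba1032456798ba3210456798ba2301547698ba0123547698ba1032547698ba3210547698ba2301765498ba0123765498ba1032765498ba32107654ba9823016745ba9801236745ba9810326745ba9832106745ba9823014567ba9801234567ba9810324567ba9832104567ba9823015476ba9801235476ba9810325476ba9832105476ba9823017654ba9801237654ba9810327654ba9832107654ab9867542301ab9867540123ab9867541032ab9867543210ab9845762301ab9845760123ab9845761032ab9845763210ab9854672301ab9854670123ab9854671032ab9854673210ab9876452301ab9876450123ab9876451032ab987645321089ba6754230189ba6754012389ba6754103289ba6754321089ba4576230189ba4576012389ba4576103289ba4576321089ba5467230189ba5467012389ba5467103289ba5467321089ba7645230189ba7645012389ba7645103289ba7645321098ab6754230198ab6754012398ab6754103298ab6754321098ab4576230198ab4576012398ab4576103298ab4576321098ab5467230198ab5467012398ab5467103298ab5467321098ab7645230198ab7645012398ab7645103298ab76453210ba8967542301ba8967540123ba8967541032ba8967543210ba8945762301ba8945760123ba8945761032ba8945763210ba8954672301ba8954670123ba8954671032ba8954673210ba8976452301b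a8976450123ba8976451032ba8976453210ab9867452310ab9867450132ab9867451023ab9867453201ab9845672310ab9845670132ab9845671023ab9845673201ab9854762310ab9854760132ab9854761023ab9854763201ab9876542310ab9876540132ab9876541023ab987654320189ba6745231089ba6745013289ba6745102389ba6745320189ba4567231089ba4567013289ba4567102389ba4567320189ba5476231089ba5476013289ba5476102389ba5476320189ba7654231089ba7654013289ba7654102389ba7654320198ab6745231098ab6745013298ab6745102398ab6745320198ab4567231098ab4567013298ab4567102398ab4567320198ab5476231098ab5476013298ab5476102398ab5476320198ab7654231098ab7654013298ab7654102398ab76543201ba8967452310ba8967450132ba8967451023ba8967453201ba8945672310ba8945670132ba8945671023ba8945673201ba8954762310ba8954760132ba8954761023ba8954763201ba8976542310ba8976540132ba8976541023ba8976543201ab8967542310ab8967540132ab8967541023ab8967543201ab8945762310ab8945760132ab8945761023ab8945763201ab8954672310ab8954670132ab8954671023ab8954673201ab8976452310ab8976450132ab8976451023ab897645320189ab6754231089ab6754013289ab6754102389ab6754320189ab4576231089ab45760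13289ab4576102389ab4576320189ab5467231089ab5467013289ab5467102389ab5467320189ab7645231089ab7645013289ab7645102389ab7645320198ba6754231098ba6754013298ba6754102398ba6754320198ba4576231098ba4576013298ba4576102398ba4576320198ba5467231098ba5467013298ba5467102398ba5467320198ba7645231098ba7645013298ba7645102398ba76453201ba9867542310ba9867540132ba9867541023ba9867543201ba9845762310ba9845760132ba9845761023ba9845763201ba9854672310ba9854670132ba9854671023ba9854673201ba9876452310ba9876450132ba9876451023ba9876453201ab8967452301ab8967450123ab8967451032ab8967453210ab8945672301ab8945670123ab8945671032ab8945673210ab8954762301ab8954760123ab8954761032ab8954763210ab8976542301ab8976540123ab8976541032ab897654321089ab6745230189ab6745012389ab6745103289ab6745321089ab4567230189ab4567012389ab4567103289ab4567321089ab5476230189ab5476012389ab5476103289ab5476321089ab7654230189ab7654012389ab7654103289ab7654321098ba6745230198ba6745012398ba6745103298ba6745321098ba4567230198ba4567012398ba4567103298ba4567321098ba5476230198ba5476012398ba5476103298ba5476321098ba7654230198ba7654012398ba7654103298ba76543210ba9867452301ba9867450123ba9867451032ba9867453210ba9845672301ba9845670123ba9845671032ba9845673210ba9854762301ba9854760123ba9854761032ba9854763210ba9876542301ba9876540123ba9876541032ba9876543210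 >>> (4 * (12 * x.val + i.1))) % 16)
theorem t12_inv : ∀ x : X, ∀ i, t12 x⁻¹ (t12 x i) = i ∧ t12 x (t12 x⁻¹ i) = i := by decide +kernel
theorem t12_mul : ∀ g ∈ pcs, ∀ x : X, ∀ i, t12 (x * g) i = t12 x (t12 g i) := by decide +kernel
/-- `z1 = t₀ t₁`, `a = t₀ t₂`, `b = t₀ t₄` where `tᵢ = (2i, 2i+1)`; `x1 = (0 2)(1 3)`, `x3 = (8 10)(9 11)`, `σ = (04)(15)(26)(37)` -/
def p12 : X →* Perm (Fin 12) :=
  homOf (fun x => ⟨t12 x, t12 x⁻¹, fun i => (t12_inv x i).1, fun i => (t12_inv x i).2⟩) pcs cl_pcs
    (Equiv.ext (by decide +kernel)) fun g hg x => Equiv.ext (t12_mul g hg x)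
theorem p12_apply (x : X) (i : Fin 12) : p12 x i = t12 x i := rfl
theorem p12_inj : Function.Injective p12 := (injective_iff_map_eq_one _).2 fun x e =>
  (show ∀ x : X, (∀ i, t12 x i = i) → x = 1 by decide +kernel) x fun i => by rw [← p12_apply, e]; rfl
theorem p12_mem (x : X) : p12 x ∈ alternatingGroup (Fin 12) := by
  have : (alternatingGroup (Fin 12)).comap p12 = ⊤ := gens_ind fun g hg => by
    simp only [gens, List.mem_cons, List.not_mem_nil, or_false] at hg
    rw [mem_comap, Perm.mem_alternatingGroup]
    rcases hg with rfl | rfl | rfl | rfl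
    · rw [show p12 x1 = swap 0 2 * swap 1 3 from Equiv.ext (by decide +kernel)]; simp
    · rw [show p12 x3 = swap 8 10 * swap 9 11 from Equiv.ext (by decide +kernel)]; simp
    · rw [show p12 b = swap 0 1 * swap 8 9 from Equiv.ext (by decide +kernel)]; simp
    · rw [show p12 σ = swap 0 4 * swap 1 5 * swap 2 6 * swap 3 7 from Equiv.ext (by decide +kernel)]; simp
  exact this.ge (mem_top x)

theorem em_of_card {G : Type*} [Group G] [Finite G] {j : X →* G} (hj : Function.Injective j) {m : ℕ}
    (h2 : Nat.card G = 2 ^ 9 * m) (hm : Odd m) : Em j := by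
  have e := Nat.card_congr (MonoidHom.ofInjective hj).toEquiv
  refine ⟨hj, Syl.mk' le_top (IsPGroup.of_card (e.symm.trans card_X)) fun c => ?_⟩
  have := j.range.card_mul_index
  rw [← e, h2, card_X] at this
  rw [relIndex_top_right, Nat.eq_of_mul_eq_mul_left (by positivity) this] at c
  exact hm.not_two_dvd_nat c

theorem exists_em {G : Type*} [Group G] [Finite G] (S : Sylow 2 G) (P : Sylow 2 (alternatingGroup (Fin 12)))
    (e : (S : Subgroup G) ≃* (P : Subgroup (alternatingGroup (Fin 12)))) : ∃ j : X →* G, Em j := by
  let f : X →* alternatingGroup (Fin 12) := p12.codRestrict _ p12_mem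
  have hf : Function.Injective f := fun x y h => p12_inj (congrArg Subtype.val h)
  have := em_of_card hf (m := 467775) (by
    have := two_mul_nat_card_alternatingGroup (α := Fin 12)
    rw [Nat.card_perm, Nat.card_fin] at this
    norm_num [Nat.factorial] at this ⊢
    omega) (by decide)
  obtain ⟨P', hP⟩ := Syl.top_iff_sylow.1 this.syl
  let k : X ≃* S := ((MonoidHom.ofInjective hf).trans (MulEquiv.subgroupCongr hP.symm)).trans
    ((Sylow.equiv P' P).trans e.symm)
  refine ⟨(S : Subgroup G).subtype.comp k.toMonoidHom, Subtype.val_injective.comp k.injective, ?_⟩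
  rw [MonoidHom.range_comp, MonoidHom.range_eq_top.2 k.surjective, ← MonoidHom.range_eq_map, range_subtype]
  exact Syl.of_sylow_top S

end Cfsg.Lib.A12S
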